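import Groth.Agent.ZeroAcycLib.SetsUnit
import Groth.Agent.EtPtsLib.Conditions
import Groth.Agent.EtPtsLib.GermEq
import Mathlib.RingTheory.Spectrum.Prime.Topology

/-!
# 0-acyclic morphisms to irreducible schemes have connected sources
-/

set_option autoImplicit false
set_option linter.unusedSectionVars false
set_option linter.style.haveILetI false
set_option backward.isDefEq.respectTransparency false
set_option backward.isDefEq.respectTransparency.types false
set_option maxHeartbeats 1000000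

universe u

open CategoryTheory CategoryTheory.Limits AlgebraicGeometry Opposite
open Groth.Agent.EtPtsLib

noncomputable section

namespace Groth.Agent.ZeroAcycLib

variable {X' X : Scheme.{u}} (π : X' ⟶ X)

/-- Germs of sections of a sheaf of sets agree where the sections agree. -/
theorem germ_sh_iff {X : Scheme.{u}} (F : EtDesc.Sh X) {Ω : Type u} [Field Ω] [IsSepClosed Ω]
    (ξ : Spec (CommRingCat.of Ω) ⟶ X) {U : X.Etale} (l : (Scheme.pointSmallEtale ξ).fiber.obj U)
    (a b : EtDesc.sect F U) :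
    (Scheme.pointSmallEtale ξ).toPresheafFiber U l F.obj a = (Scheme.pointSmallEtale ξ).toPresheafFiber U l F.obj b ↔
      liftHom ξ l default ∈ agree F.obj a b :=
  germ_eq_iff_mem_agree ξ F.obj l a b

/-- Where the images of two sections of a sheaf of sets agree, the sections agree. -/
theorem mem_agree_of_unit_sh (F : EtDesc.Sh X) {U : X.Etale} (s t : EtDesc.sect F U)
    (y : ((EtCoh.bc π).obj U).left)
    (hy : y ∈ agree ((EtDesc.pullSh π).obj F).obj (((EtDesc.adjSh π).unit.app F).hom.app (op U) s)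
      (((EtDesc.adjSh π).unit.app F).hom.app (op U) t)) :
    bcFst π U y ∈ agree F.obj s t := by
  obtain ⟨Ω, _, _, ζ, l, rfl⟩ := HensH0.exists_geom (X := X') ((EtCoh.bc π).obj U) y
  let l' : (Scheme.pointSmallEtale (ζ ≫ π)).fiber.obj U := Over.homMk (liftHom ζ l ≫ bcFst π U) (by
    show (liftHom ζ l ≫ bcFst π U) ≫ U.hom = ζ ≫ π
    rw [Category.assoc, bcFst, pullback.condition, ← Category.assoc]
    exact congrArg (· ≫ π) (liftHom_comp ζ l))
  have hl : liftBc π ζ U l' = l := fiber_bc_ext π ζ (liftHom_liftBc_fst π ζ U l')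
  have h1 := (germ_sh_iff ((EtDesc.pullSh π).obj F) ζ l _ _).2 hy
  rw [← hl] at h1
  rw [← Scheme.Hom.comp_apply]
  refine (germ_sh_iff F (ζ ≫ π) l' s t).1 ((bijective_unitStalk π ζ F).1 ?_)
  rw [StrictLocLib.unitStalk_germ π ζ F U l' s, StrictLocLib.unitStalk_germ π ζ F U l' t]
  exact h1

/-- The underlying sheaf of sets of an abelian sheaf. -/
def forgetSh {X : Scheme.{u}} (G : EtCoh.Ab X) : EtDesc.Sh X :=
  (sheafCompose X.smallEtaleTopology (forget AddCommGrpCat.{u + 1})).obj G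

theorem agree_forgetSh {X : Scheme.{u}} (G : EtCoh.Ab X) {U : X.Etale} (s t : EtCoh.sect G U) (y : U.left)
    (hy : y ∈ agree (forgetSh G).obj s t) : y ∈ agree G.obj s t := by
  obtain ⟨W, hW⟩ := Set.mem_iUnion.1 hy
  obtain ⟨g, hg⟩ := Set.mem_iUnion.1 hW
  obtain ⟨hst, hv⟩ := Set.mem_iUnion.1 hg
  exact Set.mem_iUnion.2 ⟨W, Set.mem_iUnion.2 ⟨g, Set.mem_iUnion.2 ⟨hst, hv⟩⟩⟩

/-- A sheaf of sets with two sections agreeing nowhere. -/
theorem exists_nowhere_agree (X : Scheme.{u}) :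
    ∃ (F : EtDesc.Sh X) (s₀ s₁ : EtDesc.sect F (EtCoh.top X)),
      ∀ y, y ∉ agree F.obj s₀ s₁ := by
  let M : AddCommGrpCat.{u + 1} := AddCommGrpCat.of (ULift.{u + 1} (ZMod 2))
  let G := (constantSheaf X.smallEtaleTopology AddCommGrpCat.{u + 1}).obj M
  let c₀ : EtCoh.sect G (EtCoh.top X) := cst M (EtCoh.top X) (ULift.up 0)
  let c₁ : EtCoh.sect G (EtCoh.top X) := cst M (EtCoh.top X) (ULift.up 1)
  have hne : ∀ y, y ∉ agree G.obj c₀ c₁ := fun y hy => by
    obtain ⟨Ω, _, _, ξ, l, rfl⟩ := HensH0.exists_geom (EtCoh.top X) y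
    have h := (germ_cst_bijective ξ M l).1 ((germ_eq_iff_mem_agree ξ G.obj l c₀ c₁).2 hy)
    exact absurd (congrArg ULift.down h) zero_ne_one
  exact ⟨forgetSh G, c₀, c₁, fun y hy => hne y (agree_forgetSh G c₀ c₁ y hy)⟩

/-- Agreement is transitive. -/
theorem agree_trans_sh {X : Scheme.{u}} (F : EtDesc.Sh X) {U : X.Etale} {s a b : EtDesc.sect F U} {z : U.left}
    (ha : z ∈ agree F.obj s a) (hb : z ∈ agree F.obj s b) : z ∈ agree F.obj a b := by
  obtain ⟨Ω, _, _, ξ, l, rfl⟩ := HensH0.exists_geom U z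
  exact (germ_sh_iff F ξ l a b).1 (((germ_sh_iff F ξ l s a).2 ha).symm.trans ((germ_sh_iff F ξ l s b).2 hb))

/-- If all units are isomorphisms over an irreducible base, there are no nontrivial clopens upstairs. -/
theorem eq_empty_or_univ_of_unit [IrreducibleSpace X]
    (hu : ∀ F : EtDesc.Sh X, IsIso ((EtDesc.adjSh π).unit.app F)) {C : Set X'} (hC : IsClopen C) :
    C = ∅ ∨ C = Set.univ := by
  classical
  obtain ⟨F, s₀, s₁, hne⟩ := exists_nowhere_agree X
  let U := EtCoh.top X
  let U' := (EtCoh.bc π).obj U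
  haveI : IsIso U'.hom := inferInstanceAs (IsIso (pullback.snd (𝟙 X) π))
  let sec : Bool → EtDesc.sect F U := fun b => bif b then s₁ else s₀
  let W : Bool → U'.left.Opens := fun b =>
    bif b then ⟨U'.hom ⁻¹' C, hC.2.preimage U'.hom.continuous⟩
    else ⟨(U'.hom ⁻¹' C)ᶜ, (hC.1.preimage U'.hom.continuous).isOpen_compl⟩
  have hd : ∀ a b, a ≠ b → Disjoint (W a) (W b) := by
    intro a b hab
    rw [← TopologicalSpace.Opens.coe_disjoint]
    cases a <;> cases b
    · exact absurd rfl hab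
    · exact disjoint_compl_left
    · exact disjoint_compl_right
    · exact absurd rfl hab
  have hcov : ∀ x, ∃ a, x ∈ W a := fun x => by
    by_cases hx : x ∈ U'.hom ⁻¹' C
    · exact ⟨true, hx⟩
    · exact ⟨false, hx⟩
  let unit := ((EtDesc.adjSh π).unit.app F).hom.app (op U)
  obtain ⟨t, ht⟩ := exists_glue ((EtDesc.pullSh π).obj F) U' W hd hcov
    (fun b => ((EtDesc.pullSh π).obj F).obj.map (openIncl U' (W b)).op (unit (sec b)))
  haveI := hu F
  haveI : IsIso ((EtDesc.adjSh π).unit.app F).hom :=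
    inferInstanceAs (IsIso ((sheafToPresheaf _ _).map ((EtDesc.adjSh π).unit.app F)))
  obtain ⟨s, hs⟩ := (ConcreteCategory.bijective_of_isIso (((EtDesc.adjSh π).unit.app F).hom.app (op U))).2 t
  have hmem : ∀ b y, y ∈ W b → bcFst π U y ∈ agree F.obj s (sec b) := by
    intro b y hy
    refine mem_agree_of_unit_sh π F s (sec b) y ?_
    refine Set.mem_iUnion.2 ⟨openSub U' (W b), Set.mem_iUnion.2 ⟨openIncl U' (W b), Set.mem_iUnion.2
      ⟨?_, ⟨y, hy⟩, rfl⟩⟩⟩
    exact (congrArg (((EtDesc.pullSh π).obj F).obj.map (openIncl U' (W b)).op) hs).trans (ht b)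
  haveI : IrreducibleSpace U.left := ‹IrreducibleSpace X›
  by_contra hcon
  rw [not_or] at hcon
  obtain ⟨c, hc⟩ := Set.nonempty_iff_ne_empty.2 hcon.1
  obtain ⟨d, hd'⟩ := (Set.ne_univ_iff_exists_notMem C).1 hcon.2
  have hsurj : Function.Surjective U'.hom := U'.hom.surjective
  obtain ⟨c, rfl⟩ := hsurj c
  obtain ⟨d, rfl⟩ := hsurj d
  have hn : (agree F.obj s s₁ ∩ agree F.obj s s₀).Nonempty :=
    @nonempty_preirreducible_inter U.left _ _ _ IrreducibleSpace.toPreirreducibleSpace
      (isOpen_agree F.obj s s₁) (isOpen_agree F.obj s s₀)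
      ⟨bcFst π U c, hmem true c hc⟩ ⟨bcFst π U d, hmem false d hd'⟩
  obtain ⟨z, hz₁, hz₀⟩ := hn
  exact hne z (agree_trans_sh F hz₀ hz₁)

/-- A ring with only trivial idempotents has connected spectrum. -/
theorem connectedSpace_of_idempotents' (C : Type u) [CommRing C] [Nontrivial C]
    (h : ∀ e : C, IsIdempotentElem e → e = 0 ∨ e = 1) : ConnectedSpace (PrimeSpectrum C) := by
  refine connectedSpace_iff_clopen.2 ⟨inferInstance, fun s hs => ?_⟩
  obtain ⟨e, he, rfl⟩ := PrimeSpectrum.exists_idempotent_basicOpen_eq_of_isClopen hs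
  rcases h e he with rfl | rfl
  · left; simp
  · right; simp

/-- The units of a map with empty source are not bijective over a nonempty base. -/
theorem false_of_unit_of_isEmpty [IsEmpty X'] [hX : Nonempty X]
    (hu : ∀ F : EtDesc.Sh X, IsIso ((EtDesc.adjSh π).unit.app F)) : False := by
  obtain ⟨F, s₀, s₁, hne⟩ := exists_nowhere_agree X
  let U := EtCoh.top X
  haveI := hu F
  haveI : IsIso ((EtDesc.adjSh π).unit.app F).hom :=
    inferInstanceAs (IsIso ((sheafToPresheaf _ _).map ((EtDesc.adjSh π).unit.app F)))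
  have hemp : IsEmpty ((EtCoh.bc π).obj U).left :=
    ⟨fun z => (inferInstance : IsEmpty X').false (((EtCoh.bc π).obj U).hom z)⟩
  haveI : Subsingleton (((EtDesc.pullSh π).obj F).obj.obj (op ((EtCoh.bc π).obj U))) :=
    haveI u := Types.isTerminalEquivUnique _
      (Sheaf.isTerminalOfBotCover ((EtDesc.pullSh π).obj F) _ (bot_mem_of_isEmpty hemp))
    @Unique.instSubsingleton _ u
  have h : s₀ = s₁ := (ConcreteCategory.bijective_of_isIso (((EtDesc.adjSh π).unit.app F).hom.app (op U))).1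
    (Subsingleton.elim (α := ((EtDesc.pullSh π).obj F).obj.obj (op ((EtCoh.bc π).obj U))) _ _)
  subst h
  obtain ⟨y⟩ := hX
  exact hne y (Set.mem_iUnion.2 ⟨U, Set.mem_iUnion.2 ⟨𝟙 U, Set.mem_iUnion.2 ⟨rfl, y, rfl⟩⟩⟩)

end Groth.Agent.ZeroAcycLib
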