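import Groth.Agent.ZeroAcycLib.Closed
import Groth.Agent.RedTensor.Basic
import Mathlib.FieldTheory.IsAlgClosed.AlgebraicClosure

/-!
# Algebras over a field are generically integrally closed up to nilpotents
-/

set_option autoImplicit false
set_option linter.unusedSectionVars false
set_option linter.style.haveILetI false
set_option maxHeartbeats 1000000

universe u

open TensorProduct Polynomial

noncomputable section

namespace Groth.Agent.ZeroAcycLib

/-- An element of a quotient by nilpotents that is nilpotent lifts to a nilpotent. -/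
theorem isNilpotent_of_map {A B : Type u} [CommRing A] [CommRing B] (φ : A →+* B)
    (hker : ∀ z, φ z = 0 → IsNilpotent z) {z : A} (h : IsNilpotent (φ z)) : IsNilpotent z := by
  obtain ⟨n, hn⟩ := h
  obtain ⟨m, hm⟩ := hker (z ^ n) (by rw [map_pow, hn])
  exact ⟨n * m, by rw [pow_mul, hm]⟩

/-- Every algebra over a field is generically integrally closed up to nilpotents. -/
theorem genClosed_field (k P : Type u) [Field k] [CommRing P] [Algebra k P] : GenClosed k P := by
  intro R' L _ _ _ _ _ _ _ _ _ _ _ x hx
  let K := AlgebraicClosure k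
  let j : K →ₐ[k] L := IsAlgClosed.lift
  have hmem : ∀ y : K, ∃ r : R', algebraMap R' L r = j y := fun y => by
    have h1 : IsIntegral k (j y) := (Algebra.IsIntegral.isIntegral (R := k) y).map j
    exact IsIntegrallyClosed.isIntegral_iff.1 h1.tower_top
  let ι : R' →ₐ[k] L := IsScalarTower.toAlgHom k R' L
  let jR : K →ₐ[k] R' := (AlgEquiv.ofInjective ι (IsFractionRing.injective R' L)).symm.toAlgHom.comp
    (j.codRestrict ι.range fun y => hmem y)
  have hjR : ∀ y, algebraMap R' L (jR y) = j y := fun y =>
    congrArg Subtype.val ((AlgEquiv.ofInjective ι (IsFractionRing.injective R' L)).apply_symm_apply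
      (j.codRestrict ι.range (fun y => hmem y) y))
  letI : Algebra K R' := jR.toRingHom.toAlgebra
  letI : Algebra K L := j.toRingHom.toAlgebra
  haveI : IsScalarTower K R' L := IsScalarTower.of_algebraMap_eq fun y => (hjR y).symm
  haveI : IsScalarTower k K R' := IsScalarTower.of_algebraMap_eq fun y => (jR.commutes y).symm
  haveI : IsScalarTower k K L := IsScalarTower.of_algebraMap_eq fun y => (j.commutes y).symm
  let I := nilradical (K ⊗[k] P)
  let Q := (K ⊗[k] P) ⧸ I
  haveI : _root_.IsReduced Q := (Ideal.isRadical_iff_quotient_reduced I).1 (Ideal.radical_isRadical _)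
  have hQ : GenClosed K Q := genClosed_of_noetherian fun F _ _ => RedTensor.isReduced_tensor_algClosed
  let π : (K ⊗[k] P) →ₐ[K] Q := Ideal.Quotient.mkₐ K I
  let eR : R' ⊗[K] (K ⊗[k] P) ≃ₐ[R'] R' ⊗[k] P := Algebra.TensorProduct.cancelBaseChange k K R' R' P
  let eL : L ⊗[K] (K ⊗[k] P) ≃ₐ[L] L ⊗[k] P := Algebra.TensorProduct.cancelBaseChange k K L L P
  let φR : R' ⊗[k] P →+* R' ⊗[K] Q :=
    (Algebra.TensorProduct.map (AlgHom.id K R') π).toRingHom.comp eR.symm.toRingEquiv.toRingHom
  let φL : L ⊗[k] P →+* L ⊗[K] Q :=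
    (Algebra.TensorProduct.map (AlgHom.id K L) π).toRingHom.comp eL.symm.toRingEquiv.toRingHom
  have hsurj : Function.Surjective φR :=
    (TensorProduct.map_surjective Function.surjective_id Ideal.Quotient.mk_surjective :
      Function.Surjective (Algebra.TensorProduct.map (AlgHom.id K R') π)).comp eR.symm.surjective
  have hker : ∀ z, φL z = 0 → IsNilpotent z := by
    intro z hz
    rw [← IsNilpotent.map_iff (f := eL.symm) eL.symm.injective]
    have h1 : eL.symm z ∈ RingHom.ker (Algebra.TensorProduct.map (AlgHom.id K L) π) := hz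
    rw [Algebra.TensorProduct.lTensor_ker π Ideal.Quotient.mk_surjective] at h1
    refine mem_nilradical.1 (Ideal.map_le_iff_le_comap.2 (fun w hw => ?_) h1)
    have : w ∈ I := Ideal.Quotient.eq_zero_iff_mem.1 hw
    exact Ideal.mem_comap.2 (mem_nilradical.2 ((mem_nilradical.1 this).map _))
  have hcomm : ∀ y, φL (genMap k P R' L y) = genMap K Q R' L (φR y) := by
    intro y
    induction y using TensorProduct.induction_on with
    | zero => simp only [map_zero]
    | tmul r p => rfl
    | add y z hy hz => simp only [map_add, hy, hz]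
  obtain ⟨f, hf, hfx⟩ := hx
  have hx' : (genMap K Q R' L).toRingHom.IsIntegralElem (φL x) := by
    refine ⟨f.map φR, hf.map _, ?_⟩
    have := congrArg φL hfx
    rw [map_zero, hom_eval₂] at this
    rw [eval₂_map]
    rw [show φL.comp (genMap k P R' L).toRingHom = (genMap K Q R' L).toRingHom.comp φR from
      RingHom.ext fun y => hcomm y] at this
    exact this
  obtain ⟨a, ha⟩ := hQ R' L (φL x) hx'
  obtain ⟨b, rfl⟩ := hsurj a
  refine ⟨b, isNilpotent_of_map (A := L ⊗[k] P) (B := L ⊗[K] Q) φL hker ?_⟩
  rw [map_sub, hcomm]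
  exact ha

end Groth.Agent.ZeroAcycLib
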