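import Groth.Agent.ZeroAcycLib.Connected
import Groth.Agent.StrictLocLib.FlatBC
import Groth.Agent.Hensel.Basic
import Groth.Agent.GeomConnPull.Field
import Groth.Agent.WLocalLib.Strict

/-!
# Strict localizations over a base with nilpotents
-/

set_option autoImplicit false
set_option linter.style.haveILetI false
set_option linter.unusedSectionVars false
set_option backward.isDefEq.respectTransparency false
set_option maxHeartbeats 1000000

universe u

open CategoryTheory CategoryTheory.Limits AlgebraicGeometry IsLocalRing TensorProduct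

noncomputable section

namespace Groth.Agent.ZeroAcycLib

/-- The base change to a quotient by a nil ideal has nilpotent kernel. -/
theorem isNilpotent_of_includeLeft {V W A : Type u} [CommRing V] [CommRing W] [CommRing A] [Algebra V W]
    [Algebra V A] (hsurj : Function.Surjective (algebraMap V W))
    (hnil : ∀ v : V, algebraMap V W v = 0 → IsNilpotent v) {a : A}
    (ha : (a ⊗ₜ[V] (1 : W)) = 0) : IsNilpotent a := by
  let e := Algebra.TensorProduct.lTensor_ker (A := A) (Algebra.ofId V W) hsurj
  have h1 : (Algebra.TensorProduct.rid V V A).symm a ∈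
      RingHom.ker (Algebra.TensorProduct.map (AlgHom.id V A) (Algebra.ofId V W)) := by
    rw [RingHom.mem_ker, Algebra.TensorProduct.rid_symm_apply]
    exact (Algebra.TensorProduct.map_tmul _ _ _ _).trans (by rw [map_one]; exact ha)
  rw [e] at h1
  have h2 : IsNilpotent ((Algebra.TensorProduct.rid V V A).symm a) := by
    refine mem_nilradical.1 (Ideal.map_le_iff_le_comap.2 (fun w hw => ?_) h1)
    exact Ideal.mem_comap.2 (mem_nilradical.2 ((hnil w hw).map _))
  have h3 := h2.map (Algebra.TensorProduct.rid V V A)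
  rwa [AlgEquiv.apply_symm_apply] at h3

/-- A surjection with nil kernel preserves strict henselianity. -/
theorem strict_of_surjective {A B : Type u} [CommRing A] [HenselianLocalRing A] [IsSepClosed (ResidueField A)]
    [CommRing B] [Nontrivial B] (φ : A →+* B) (hφ : Function.Surjective φ) :
    ∃ (_ : HenselianLocalRing B), IsSepClosed (ResidueField B) := by
  haveI : IsLocalRing B := IsLocalRing.of_surjective' φ hφ
  haveI : IsLocalHom φ := IsLocalHom.of_surjective φ hφ
  haveI : HenselianRing A (maximalIdeal A) := Hensel.henselianRing_maximalIdeal_iff.2 inferInstance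
  have h1 := Hensel.map_surjective (I := maximalIdeal A) hφ
  rw [IsLocalRing.map_maximalIdeal_of_surjective φ hφ] at h1
  haveI := Hensel.henselianRing_maximalIdeal_iff.1 h1
  refine ⟨inferInstance, Groth.Agent.WLocalLib.isSepClosed_of_ringEquiv (RingEquiv.ofBijective
    (ResidueField.map φ) ⟨RingHom.injective _, fun z => ?_⟩)⟩
  obtain ⟨z, rfl⟩ := residue_surjective z
  obtain ⟨a, rfl⟩ := hφ z
  exact ⟨residue A a, rfl⟩

variable {V P RS RX W : Type u} [CommRing V] [CommRing P] [CommRing RS] [CommRing RX] [CommRing W]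
  [IsLocalRing RX] [HenselianLocalRing RS] [IsSepClosed (ResidueField RS)]
  [Algebra V P] [Algebra V W] [Algebra V RS] [Algebra V RX] [Algebra P RX]
  [Algebra RS RX] [IsLocalHom (algebraMap RS RX)] [IsScalarTower V P RX]
  [IsScalarTower V RS RX] [Algebra.WeaklyEtale V RS] [Algebra.WeaklyEtale P RX]
  [Module.Flat W (W ⊗[V] P)]

/-- Over a nil quotient of the base, the map of strict localizations becomes flat with connected fibres. -/
theorem exists_flat_reduction (hP : GenClosed W (W ⊗[V] P)) (hsurj : Function.Surjective (algebraMap V W))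
    (hnil : ∀ v : V, algebraMap V W v = 0 → IsNilpotent v) :
    ∃ (S' X' : Scheme.{u}) (i : S' ⟶ Spec (CommRingCat.of RS)) (j : X' ⟶ Spec (CommRingCat.of RX)) (ψ' : X' ⟶ S'),
      IsPullback j ψ' (Spec.map (CommRingCat.ofHom (algebraMap RS RX))) i ∧ IsClosedImmersion i ∧ Surjective i ∧
      QuasiCompact ψ' ∧ Flat ψ' ∧ GeometricallyConnected ψ' ∧
      GeometricallyConnected (Spec.map (CommRingCat.ofHom (algebraMap RS RX))) := by
  let P' := P ⊗[V] W
  let RS' := RS ⊗[V] W
  let RX' := RX ⊗[V] W
  let iS : RS →+* RS' := Algebra.TensorProduct.includeLeftRingHom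
  let iX : RX →+* RX' := Algebra.TensorProduct.includeLeftRingHom
  have hiS : Function.Surjective iS := Algebra.TensorProduct.includeLeft_surjective (R := V) RS RS hsurj
  have hiX : Function.Surjective iX := Algebra.TensorProduct.includeLeft_surjective (R := V) RX RX hsurj
  have hnS : ∀ a, iS a = 0 → IsNilpotent a := fun a ha => isNilpotent_of_includeLeft hsurj hnil ha
  have hnX : ∀ a, iX a = 0 → IsNilpotent a := fun a ha => isNilpotent_of_includeLeft hsurj hnil ha
  haveI : Nontrivial RS' := ⟨⟨1, 0, fun h => not_isNilpotent_one (hnS 1 ((map_one iS).trans h))⟩⟩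
  haveI : Nontrivial RX' := ⟨⟨1, 0, fun h => not_isNilpotent_one (hnX 1 ((map_one iX).trans h))⟩⟩
  obtain ⟨hhen, hsep⟩ := strict_of_surjective iS hiS
  haveI := hhen
  haveI := hsep
  haveI : IsLocalRing RX' := IsLocalRing.of_surjective' iX hiX
  -- the structures
  let ψm : RS' →ₐ[V] RX' := Algebra.TensorProduct.map (IsScalarTower.toAlgHom V RS RX) (AlgHom.id V W)
  let cP : W →+* P' := (Algebra.TensorProduct.includeRight (R := V) (A := P) (B := W)).toRingHom
  letI : Algebra W P' := cP.toAlgebra
  letI : Algebra W RS' := (Algebra.TensorProduct.includeRight (R := V) (A := RS) (B := W)).toRingHom.toAlgebra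
  letI : Algebra W RX' := (Algebra.TensorProduct.includeRight (R := V) (A := RX) (B := W)).toRingHom.toAlgebra
  letI : Algebra RS' RX' := ψm.toRingHom.toAlgebra
  letI : Algebra P' RX' := (SmoothConnLib.pushHom V P V RX W).toRingHom.toAlgebra
  haveI : Algebra.WeaklyEtale P' RX' := SmoothConnLib.weaklyEtale_pushHom V P V RX W
  haveI : IsScalarTower W P' RX' := IsScalarTower.of_algebraMap_eq fun w => by
    show _ = SmoothConnLib.pushHom V P V RX W ((1 : P) ⊗ₜ[V] w)
    rw [SmoothConnLib.pushHom_tmul, map_one]
    rfl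
  haveI : IsScalarTower W RS' RX' := IsScalarTower.of_algebraMap_eq fun w => by
    show _ = ψm ((1 : RS) ⊗ₜ[V] w)
    rw [show ψm ((1 : RS) ⊗ₜ[V] w) = _ from Algebra.TensorProduct.map_tmul _ _ _ _, map_one]
    rfl
  have hψi : ψm.toRingHom.comp iS = iX.comp (algebraMap RS RX) := RingHom.ext fun s => rfl
  haveI : IsLocalHom iX := IsLocalHom.of_surjective iX hiX
  haveI : IsLocalHom (algebraMap RS' RX') := ⟨fun a ha => by
    obtain ⟨a, rfl⟩ := hiS a
    have h1 : IsUnit (iX (algebraMap RS RX a)) := (RingHom.congr_fun hψi a) ▸ ha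
    exact (isUnit_of_map_unit (algebraMap RS RX) a (isUnit_of_map_unit iX _ h1)).map iS⟩
  haveI : Algebra.WeaklyEtale W RS' := by
    haveI : Algebra.WeaklyEtale W (W ⊗[V] RS) := inferInstance
    let e : (W ⊗[V] RS) ≃ₐ[W] RS' :=
      { (Algebra.TensorProduct.comm V W RS).toRingEquiv with
        commutes' := fun w => rfl }
    exact GorSp.weaklyEtale_of_algEquiv e inferInstance
  let eP : (W ⊗[V] P) ≃ₐ[W] P' :=
    { (Algebra.TensorProduct.comm V W P).toRingEquiv with
      commutes' := fun w => rfl }
  haveI : Module.Flat W P' := Module.Flat.of_linearEquiv eP.symm.toLinearEquiv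
  haveI : Module.Flat W RX' := Module.Flat.trans W P' RX'
  haveI : Module.Flat RS' RX' := WLocalLib.flat_of_weaklyEtale (A := W) RX'
  have hc : ∀ (Ω : Type u) [Field Ω] [IsAlgClosed Ω] (η : Spec (CommRingCat.of Ω) ⟶ Spec (CommRingCat.of RS')),
      ConnectedSpace ↥(pullback (Spec.map (CommRingCat.ofHom (algebraMap RS' RX'))) η) :=
    fun Ω _ _ η => connectedSpace_geomFibre (V := W) (P := P') (RX := RX') (hP.congr eP) η
  haveI hgc : GeometricallyConnected (Spec.map (CommRingCat.ofHom (algebraMap RS' RX'))) :=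
    StrictLocLib.geometricallyConnected_of_algClosed _ hc
  -- the square
  have hsq : IsPullback (Spec.map (CommRingCat.ofHom iX)) (Spec.map (CommRingCat.ofHom (algebraMap RS' RX')))
      (Spec.map (CommRingCat.ofHom (algebraMap RS RX))) (Spec.map (CommRingCat.ofHom iS)) := by
    refine isPullback_SpecMap_of_isPushout _ _ _ _ ?_
    have h1 := CommRingCat.isPushout_tensorProduct V RS W
    have h2 := CommRingCat.isPushout_tensorProduct V RX W
    refine IsPushout.of_left ?_ (CommRingCat.hom_ext hψi.symm) h1
    have e1 : CommRingCat.ofHom (algebraMap V RS) ≫ CommRingCat.ofHom (algebraMap RS RX) =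
        CommRingCat.ofHom (algebraMap V RX) := CommRingCat.hom_ext (IsScalarTower.algebraMap_eq V RS RX).symm
    have e2 : CommRingCat.ofHom (Algebra.TensorProduct.includeRight (R := V) (A := RS) (B := W)).toRingHom ≫
        CommRingCat.ofHom (algebraMap RS' RX') =
        CommRingCat.ofHom (Algebra.TensorProduct.includeRight (R := V) (A := RX) (B := W)).toRingHom :=
      CommRingCat.hom_ext (RingHom.ext fun w => (IsScalarTower.algebraMap_apply W RS' RX' w).symm)
    rw [e1, e2]
    exact h2
  refine ⟨_, _, Spec.map (CommRingCat.ofHom iS), Spec.map (CommRingCat.ofHom iX),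
    Spec.map (CommRingCat.ofHom (algebraMap RS' RX')), hsq, IsClosedImmersion.spec_of_surjective _ hiS, ⟨fun x => ?_⟩,
    inferInstance, ?_, hgc, ?_⟩
  · refine ⟨?_, ?_⟩
    · exact ⟨x.asIdeal.map iS, Ideal.map_isPrime_of_surjective hiS fun a ha =>
        nilradical_le_prime x.asIdeal (mem_nilradical.2 (hnS a ha))⟩
    · refine PrimeSpectrum.ext ?_
      show (x.asIdeal.map iS).comap iS = x.asIdeal
      rw [Ideal.comap_map_of_surjective iS hiS]
      exact sup_eq_left.2 fun a ha => nilradical_le_prime x.asIdeal (mem_nilradical.2 (hnS a ha))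
  · rw [HasRingHomProperty.Spec_iff (P := @Flat)]
    exact RingHom.flat_algebraMap_iff.2 inferInstance
  · refine StrictLocLib.geometricallyConnected_of_algClosed _ fun Ω _ _ η => ?_
    obtain ⟨ω, rfl⟩ := Spec.map_surjective η
    have hk : RingHom.ker iS ≤ RingHom.ker ω.hom := fun a ha =>
      RingHom.mem_ker.2 ((hnS a ha).map ω.hom).eq_zero
    let ω' : RS' →+* Ω := iS.liftOfSurjective hiS ⟨ω.hom, hk⟩
    have hω : Spec.map ω = Spec.map (CommRingCat.ofHom ω') ≫ Spec.map (CommRingCat.ofHom iS) := by
      rw [← Spec.map_comp]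
      exact congrArg _ (CommRingCat.hom_ext (RingHom.liftOfSurjective_comp iS hiS ⟨ω.hom, hk⟩).symm)
    haveI := hc Ω (Spec.map (CommRingCat.ofHom ω'))
    let e := ((IsPullback.of_hasPullback (Spec.map (CommRingCat.ofHom (algebraMap RS' RX')))
      (Spec.map (CommRingCat.ofHom ω'))).flip.paste_vert hsq.flip).flip.isoPullback
    rw [hω]
    exact GeomIrred.connectedSpace_of_surjective e.hom e.hom.surjective inferInstance

/-- Quotient maps pass to nilpotent thickenings. -/
theorem isQuotientMap_fst_of_reduction {X S X' S' : Scheme.{u}} {ψ : X ⟶ S} {i : S' ⟶ S} {j : X' ⟶ X}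
    {ψ' : X' ⟶ S'} (hsq : IsPullback j ψ' ψ i) [IsClosedImmersion i] [Surjective i] [Flat ψ'] [QuasiCompact ψ']
    [Surjective ψ'] (U : S.Etale) : Topology.IsQuotientMap (pullback.fst U.hom ψ) := by
  let p : pullback U.hom i ⟶ U.left := pullback.fst U.hom i
  haveI : IsClosedImmersion p := MorphismProperty.pullback_fst _ _ ‹IsClosedImmersion i›
  haveI : Surjective p := MorphismProperty.pullback_fst _ _ ‹Surjective i›
  have hp : Topology.IsQuotientMap p :=
    p.isClosedEmbedding.isClosedMap.isQuotientMap p.continuous p.surjective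
  let q : pullback (pullback.snd U.hom i) ψ' ⟶ pullback U.hom i := pullback.fst _ _
  haveI : Flat q := MorphismProperty.pullback_fst _ _ ‹Flat ψ'›
  haveI : QuasiCompact q := MorphismProperty.pullback_fst _ _ ‹QuasiCompact ψ'›
  haveI : Surjective q := MorphismProperty.pullback_fst _ _ ‹Surjective ψ'›
  have hq : Topology.IsQuotientMap q := Flat.isQuotientMap_of_surjective q
  let l : pullback (pullback.snd U.hom i) ψ' ⟶ pullback U.hom ψ :=
    pullback.lift (q ≫ p) (pullback.snd _ _ ≫ j) (by
      rw [Category.assoc, pullback.condition, ← Category.assoc, pullback.condition, Category.assoc, ← hsq.w,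
        Category.assoc])
  have e : ⇑(pullback.fst U.hom ψ) ∘ ⇑l = ⇑p ∘ ⇑q := funext fun z => by
    rw [Function.comp_apply, Function.comp_apply, ← Scheme.Hom.comp_apply, pullback.lift_fst, Scheme.Hom.comp_apply]
    rfl
  have h := hp.comp hq
  rw [← e] at h
  exact h.of_comp l.continuous (pullback.fst U.hom ψ).continuous

end Groth.Agent.ZeroAcycLib
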