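import Groth.Agent.ZeroAcycLib.Acyclic
import Groth.Agent.ZeroAcycLib.Field
import Groth.Agent.ZeroAcycLib.NilBase

/-!
# Universal local 0-acyclicity over a discrete base
-/

set_option autoImplicit false
set_option linter.unusedSectionVars false
set_option linter.style.haveILetI false
set_option backward.isDefEq.respectTransparency false
set_option maxHeartbeats 1000000

universe u

open CategoryTheory CategoryTheory.Limits AlgebraicGeometry Opposite TensorProduct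

noncomputable section

namespace Groth.Agent.ZeroAcycLib

/-- A quasi-compact map that becomes flat with connected fibres after a nilpotent thickening is 0-acyclic. -/
theorem isZeroAcyclic_of_reduction {X S X' S' : Scheme.{u}} {ψ : X ⟶ S} {i : S' ⟶ S} {j : X' ⟶ X}
    {ψ' : X' ⟶ S'} (hsq : IsPullback j ψ' ψ i) [IsClosedImmersion i] [Surjective i] [Flat ψ'] [QuasiCompact ψ']
    [GeometricallyConnected ψ'] [GeometricallyConnected ψ] : EtAcyc.IsZeroAcyclic ψ := fun V F => by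
  haveI : GeometricallyConnected (EtAcyc.prj ψ V) :=
    MorphismProperty.pullback_fst (P := @GeometricallyConnected) _ _ ‹GeometricallyConnected ψ›
  have hq : ∀ U : V.left.Etale, Topology.IsQuotientMap (pullback.fst U.hom (EtAcyc.prj ψ V)) := by
    intro U
    haveI := U.prop
    haveI := V.prop
    let U₀ : S.Etale := MorphismProperty.Over.mk ⊤ (U.hom ≫ V.hom) inferInstance
    have h0 : Topology.IsQuotientMap (pullback.fst U₀.hom ψ) := isQuotientMap_fst_of_reduction hsq U₀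
    let e := pullbackRightPullbackFstIso V.hom ψ U.hom
    have he : pullback.fst U.hom (EtAcyc.prj ψ V) = e.hom ≫ pullback.fst (U.hom ≫ V.hom) ψ :=
      (pullbackRightPullbackFstIso_hom_fst _ _ _).symm
    have hcomp : ⇑(pullback.fst U.hom (EtAcyc.prj ψ V)) = ⇑(pullback.fst (U.hom ≫ V.hom) ψ) ∘ ⇑e.hom :=
      funext fun z => by rw [he, Scheme.Hom.comp_apply]; rfl
    rw [hcomp]
    exact h0.comp e.hom.homeomorph.isQuotientMap
  exact isIso_unit_sh_of_ab (EtAcyc.prj ψ V) F (GeomConnPull.isIso_unit _ _ hq) fun U => (hq U).surjective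

/-- The local rings over a point of a discrete scheme: the sections have a single prime, nil and maximal. -/
theorem exists_chart_of_discrete {Y : Scheme.{u}} [DiscreteTopology Y] (y : Y) :
    ∃ U : Y.Opens, IsAffineOpen U ∧ y ∈ U ∧
      ∃ n : Ideal Γ(Y, U), n.IsMaximal ∧ ∀ v ∈ n, IsNilpotent v := by
  obtain ⟨U, hU, hyU, hUy⟩ := exists_isAffineOpen_mem_and_subset (X := Y)
    (U := ⟨{y}, isOpen_discrete _⟩) (x := y) (Set.mem_singleton y)
  haveI : Subsingleton ↥(Spec Γ(Y, U)) := by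
    refine ⟨fun a b => hU.fromSpec.isOpenEmbedding.injective ?_⟩
    have ha : hU.fromSpec a ∈ U := hU.range_fromSpec.subset (Set.mem_range_self a)
    have hb : hU.fromSpec b ∈ U := hU.range_fromSpec.subset (Set.mem_range_self b)
    exact (Set.mem_singleton_iff.1 (hUy ha)).trans (Set.mem_singleton_iff.1 (hUy hb)).symm
  let p := hU.primeIdealOf ⟨y, hyU⟩
  refine ⟨U, hU, hyU, p.asIdeal, ?_, fun v hv => ?_⟩
  · obtain ⟨M, hM, hle⟩ := Ideal.exists_le_maximal p.asIdeal p.isPrime.ne_top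
    have e : (⟨M, hM.isPrime⟩ : PrimeSpectrum Γ(Y, U)) = p := Subsingleton.elim (α := ↥(Spec Γ(Y, U))) _ _
    rwa [← e]
  · rw [← mem_nilradical, nilradical_eq_sInf, Submodule.mem_sInf]
    intro q hq
    have e : (⟨q, hq⟩ : PrimeSpectrum Γ(Y, U)) = p := Subsingleton.elim (α := ↥(Spec Γ(Y, U))) _ _
    rw [← e] at hv
    exact hv

/-- Over a nilpotent thickening of a field, base changes are nil thickenings of flat generically closed algebras. -/
theorem exists_reduction_chart {V P V₁ P₁ : Type u} [CommRing V] [CommRing P] [CommRing V₁] [CommRing P₁]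
    [Algebra V P] [Algebra V V₁] [Algebra V₁ P₁] (e : V₁ ⊗[V] P ≃ₐ[V₁] P₁) {n : Ideal V} (hn : n.IsMaximal)
    (hnil : ∀ v ∈ n, IsNilpotent v) :
    ∃ I : Ideal V₁, (∀ v ∈ I, IsNilpotent v) ∧ Module.Flat (V₁ ⧸ I) ((V₁ ⧸ I) ⊗[V₁] P₁) ∧
      GenClosed (V₁ ⧸ I) ((V₁ ⧸ I) ⊗[V₁] P₁) := by
  let I := n.map (algebraMap V V₁)
  letI := hn
  letI : Field (V ⧸ n) := Ideal.Quotient.field n
  let q : V ⧸ n →+* V₁ ⧸ I := Ideal.quotientMap I (algebraMap V V₁) Ideal.le_comap_map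
  letI : Algebra (V ⧸ n) (V₁ ⧸ I) := q.toAlgebra
  haveI : IsScalarTower V (V ⧸ n) (V₁ ⧸ I) := IsScalarTower.of_algebraMap_eq fun v => rfl
  let Q := (V ⧸ n) ⊗[V] P
  let e₁ : (V₁ ⧸ I) ⊗[V ⧸ n] Q ≃ₐ[V₁ ⧸ I] (V₁ ⧸ I) ⊗[V] P :=
    Algebra.TensorProduct.cancelBaseChange V (V ⧸ n) (V₁ ⧸ I) (V₁ ⧸ I) P
  let e₂ : (V₁ ⧸ I) ⊗[V₁] (V₁ ⊗[V] P) ≃ₐ[V₁ ⧸ I] (V₁ ⧸ I) ⊗[V] P :=
    Algebra.TensorProduct.cancelBaseChange V V₁ (V₁ ⧸ I) (V₁ ⧸ I) P
  let e₃ : (V₁ ⧸ I) ⊗[V₁] (V₁ ⊗[V] P) ≃ₐ[V₁ ⧸ I] (V₁ ⧸ I) ⊗[V₁] P₁ :=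
    Algebra.TensorProduct.congr AlgEquiv.refl e
  refine ⟨I, fun v hv => ?_, ?_, ?_⟩
  · exact mem_nilradical.1 (Ideal.map_le_iff_le_comap.2
      (fun w hw => Ideal.mem_comap.2 (mem_nilradical.2 ((hnil w hw).map _))) hv)
  · haveI : Module.Flat (V₁ ⧸ I) ((V₁ ⧸ I) ⊗[V ⧸ n] Q) := inferInstance
    exact Module.Flat.of_linearEquiv ((e₁.trans e₂.symm).trans e₃).toLinearEquiv.symm
  · exact (genClosed_field (V ⧸ n) Q).baseChange.congr ((e₁.trans e₂.symm).trans e₃)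

/-- Morphisms to a discrete scheme are universally locally 0-acyclic. -/
theorem isULocZeroAcyclic_of_discrete {X Y : Scheme.{u}} (g : X ⟶ Y) [DiscreteTopology Y] :
    EtAcyc.IsULocZeroAcyclic g := by
  intro X₁ Y₁ g₁ b' b hc x RS RX _ _ _ _ _ _ _ _ _ _ _ _ hψ
  obtain ⟨V₀, hV₀, hxV₀, n, hn, hnil⟩ := exists_chart_of_discrete (b (g₁ x))
  have hx' : b' x ∈ g ⁻¹ᵁ V₀ := by
    show g (b' x) ∈ V₀
    rwa [← Scheme.Hom.comp_apply, hc.w, Scheme.Hom.comp_apply]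
  obtain ⟨W, hW, hxW, e⟩ := exists_isAffineOpen_mem_and_subset (X := X) (U := g ⁻¹ᵁ V₀) (x := b' x) hx'
  obtain ⟨V', hV', hxV', e'⟩ := exists_isAffineOpen_mem_and_subset (X := Y₁) (U := b ⁻¹ᵁ V₀) (x := g₁ x) hxV₀
  obtain ⟨hO, hpo⟩ := PullbackMod.isPushout_appLE hc hV₀ hW hV' e e'
  let O := b' ⁻¹ᵁ W ⊓ g₁ ⁻¹ᵁ V'
  have hxO : x ∈ O := ⟨hxW, hxV'⟩
  let V := Γ(Y₁, V')
  let P := Γ(X₁, O)
  letI : Algebra Γ(Y, V₀) Γ(X, W) := (g.appLE V₀ W e).hom.toAlgebra
  letI : Algebra Γ(Y, V₀) V := (b.appLE V₀ V' e').hom.toAlgebra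
  letI : Algebra Γ(X, W) P := (b'.appLE W O inf_le_left).hom.toAlgebra
  letI : Algebra V P := (g₁.appLE V' O inf_le_right).hom.toAlgebra
  letI : Algebra Γ(Y, V₀) P := ((b'.appLE W O inf_le_left).hom.comp (g.appLE V₀ W e).hom).toAlgebra
  haveI : IsScalarTower Γ(Y, V₀) Γ(X, W) P := .of_algebraMap_eq fun _ => rfl
  haveI : IsScalarTower Γ(Y, V₀) V P := .of_algebraMap_eq' (by
    show ((g.appLE V₀ W e) ≫ b'.appLE W O inf_le_left).hom = ((b.appLE V₀ V' e') ≫ g₁.appLE V' O inf_le_right).hom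
    simp only [Scheme.Hom.appLE_comp_appLE, hc.w])
  haveI : Algebra.IsPushout Γ(Y, V₀) V Γ(X, W) P := hpo
  obtain ⟨I, hI, hflat, hgen⟩ := exists_reduction_chart (Algebra.IsPushout.equiv Γ(Y, V₀) V Γ(X, W) P) hn hnil
  haveI := hflat
  letI : Algebra V (Y₁.presheaf.stalk (g₁.base x)) := (Y₁.presheaf.germ V' (g₁.base x) hxV').hom.toAlgebra
  haveI : IsLocalization.AtPrime (Y₁.presheaf.stalk (g₁.base x)) (hV'.primeIdealOf ⟨g₁.base x, hxV'⟩).asIdeal :=
    hV'.isLocalization_stalk ⟨g₁.base x, hxV'⟩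
  letI : Algebra P (X₁.presheaf.stalk x) := (X₁.presheaf.germ O x hxO).hom.toAlgebra
  haveI : IsLocalization.AtPrime (X₁.presheaf.stalk x) (hO.primeIdealOf ⟨x, hxO⟩).asIdeal :=
    hO.isLocalization_stalk ⟨x, hxO⟩
  haveI := WLocalLib.weaklyEtale_of_isLocalization (B := V) (B' := Y₁.presheaf.stalk (g₁.base x))
    (hV'.primeIdealOf ⟨g₁.base x, hxV'⟩).asIdeal.primeCompl
  haveI := WLocalLib.weaklyEtale_of_isLocalization (B := P) (B' := X₁.presheaf.stalk x)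
    (hO.primeIdealOf ⟨x, hxO⟩).asIdeal.primeCompl
  haveI := S1467.weaklyEtale_sh (Y₁.presheaf.stalk (g₁.base x)) RS
  haveI := S1467.weaklyEtale_sh (X₁.presheaf.stalk x) RX
  letI : Algebra V RS := ((algebraMap (Y₁.presheaf.stalk (g₁.base x)) RS).comp
    (algebraMap V (Y₁.presheaf.stalk (g₁.base x)))).toAlgebra
  haveI : IsScalarTower V (Y₁.presheaf.stalk (g₁.base x)) RS := IsScalarTower.of_algebraMap_eq fun _ => rfl
  letI : Algebra P RX := ((algebraMap (X₁.presheaf.stalk x) RX).comp (algebraMap P (X₁.presheaf.stalk x))).toAlgebra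
  haveI : IsScalarTower P (X₁.presheaf.stalk x) RX := IsScalarTower.of_algebraMap_eq fun _ => rfl
  haveI : Algebra.WeaklyEtale V RS := Algebra.WeaklyEtale.trans V (Y₁.presheaf.stalk (g₁.base x)) RS
  haveI : Algebra.WeaklyEtale P RX := Algebra.WeaklyEtale.trans P (X₁.presheaf.stalk x) RX
  letI : Algebra V RX := ((algebraMap P RX).comp (algebraMap V P)).toAlgebra
  haveI : IsScalarTower V P RX := IsScalarTower.of_algebraMap_eq fun _ => rfl
  have hg : g₁.appLE V' O inf_le_right ≫ X₁.presheaf.germ O x hxO =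
      Y₁.presheaf.germ V' (g₁.base x) hxV' ≫ g₁.stalkMap x := by
    rw [Scheme.Hom.germ_stalkMap, Scheme.Hom.appLE, Category.assoc, TopCat.Presheaf.germ_res]
  haveI : IsScalarTower V RS RX := IsScalarTower.of_algebraMap_eq fun v => by
    show algebraMap (X₁.presheaf.stalk x) RX ((g₁.appLE V' O inf_le_right ≫ X₁.presheaf.germ O x hxO).hom v) = _
    rw [hg]
    exact (RingHom.congr_fun hψ ((Y₁.presheaf.germ V' (g₁.base x) hxV').hom v)).symm
  haveI := Hensel.IsStrictHenselization.henselian (R := Y₁.presheaf.stalk (g₁.base x)) (S := RS)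
  haveI : IsSepClosed (IsLocalRing.ResidueField RS) :=
    (Hensel.IsStrictHenselization.isSepClosure (R := Y₁.presheaf.stalk (g₁.base x)) (S := RS)).sep_closed
  obtain ⟨S', X', i, j, ψ', hsq, _, _, _, _, _, _⟩ := exists_flat_reduction (V := V) (P := P) (RS := RS) (RX := RX)
    (W := V ⧸ I) hgen Ideal.Quotient.mk_surjective fun v hv => hI v (Ideal.Quotient.eq_zero_iff_mem.1 hv)
  exact isZeroAcyclic_of_reduction hsq

end Groth.Agent.ZeroAcycLib
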