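import Groth.Agent.ZeroAcycLib.Generalizing
import Groth.Agent.StrictLocLib.SetsBC

/-!
# Base change along universally locally 0-acyclic morphisms
-/

set_option autoImplicit false
set_option linter.unusedSectionVars false
set_option linter.style.haveILetI false
set_option backward.isDefEq.respectTransparency false
set_option backward.isDefEq.respectTransparency.types false
set_option maxHeartbeats 1000000

universe u

open CategoryTheory CategoryTheory.Limits AlgebraicGeometry IsLocalRing

noncomputable section

namespace Groth.Agent.ZeroAcycLib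

open StrictLocLib

/-- Units of abelian sheaves are isomorphisms along base changes of maps of strict localizations. -/
theorem unitBijAlong_of_acyclic {X S : Scheme.{u}} (g : X ⟶ S) (hg : EtAcyc.IsULocZeroAcyclic g) (x : X)
    (RS : Type u) [CommRing RS]
    [IsLocalRing RS] [Algebra (S.presheaf.stalk (g.base x)) RS]
    [IsLocalHom (algebraMap (S.presheaf.stalk (g.base x)) RS)]
    [Hensel.IsStrictHenselization (S.presheaf.stalk (g.base x)) RS]
    (RX : Type u) [CommRing RX] [IsLocalRing RX] [Algebra (X.presheaf.stalk x) RX]
    [IsLocalHom (algebraMap (X.presheaf.stalk x) RX)] [Hensel.IsStrictHenselization (X.presheaf.stalk x) RX]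
    (ψ : RS →+* RX) [IsLocalHom ψ]
    (hψ : ψ.comp (algebraMap (S.presheaf.stalk (g.base x)) RS) =
      (algebraMap (X.presheaf.stalk x) RX).comp (g.stalkMap x).hom) : UnitBijAlong ψ := by
  haveI hgc : GeometricallyConnected (Spec.map (CommRingCat.ofHom ψ)) :=
    geometricallyConnected_of_algClosed _ fun Ω _ _ η => connectedSpace_fibre_of_acyclic g hg x RS RX ψ hψ Ω η
  haveI hsurj := surjective_strictLoc g hg x RS RX ψ hψ
  intro T' T t π q sq G
  haveI : GeometricallyConnected π := MorphismProperty.of_isPullback sq.flip hgc
  haveI : QuasiCompact π := MorphismProperty.of_isPullback sq.flip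
    (inferInstance : QuasiCompact (Spec.map (CommRingCat.ofHom ψ)))
  haveI : Surjective π := MorphismProperty.of_isPullback sq.flip hsurj
  refine GeomConnPull.isIso_unit π G fun U => ?_
  haveI : QuasiCompact (pullback.fst U.hom π) := MorphismProperty.pullback_fst _ _ ‹QuasiCompact π›
  haveI : Surjective (pullback.fst U.hom π) := MorphismProperty.pullback_fst _ _ ‹Surjective π›
  refine isQuotientMap_of_generalizing _ ?_
  exact generalizingMap_strictLoc g hg x RS RX ψ hψ
    ((IsPullback.of_hasPullback U.hom π).paste_vert sq)

/-- Base change of sheaves of sets along a universally locally 0-acyclic morphism. -/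
theorem isIso_baseChange0Sh_of_acyclic {X Y X' Y' : Scheme.{u}} (f : X ⟶ Y) (g : Y' ⟶ Y)
    (f' : X' ⟶ Y') (g' : X' ⟶ X) (h : IsPullback g' f' f g) [QuasiCompact f] [QuasiSeparated f]
    (hg : EtAcyc.IsULocZeroAcyclic g) (F : EtDesc.Sh X) :
    IsIso (EtBC.baseChange0Sh f g f' g' h.w F) :=
  isIso_baseChange0Sh_of_ab_spreads f g f' g' h F
    (spreads_of_generalizing f g fun V => generalizingMap_of_acyclic _
      (isULocZeroAcyclic_of_isPullback hg (IsPullback.of_hasPullback V.hom g).flip))
    (isIso_baseChange0_of_unit f g f' g' h.flip.flip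
      (fun x RS _ _ _ _ _ RX _ _ _ _ _ ψ _ hψ => unitBijAlong_of_acyclic g hg x RS RX ψ hψ) (freeAbOf F))

end Groth.Agent.ZeroAcycLib
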