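import Groth.Agent.ZeroAcycLib.Local
import Groth.Agent.SmoothConnLib.Domain
import Groth.Agent.GeomIrred.Scheme
import Mathlib.RingTheory.Localization.Integral
import Mathlib.RingTheory.Spectrum.Prime.Topology

/-!
# Connected geometric fibres from generic integral closedness
-/

set_option autoImplicit false
set_option linter.style.haveILetI false
set_option linter.unusedSectionVars false
set_option backward.isDefEq.respectTransparency false
set_option maxHeartbeats 1000000

universe u

open CategoryTheory CategoryTheory.Limits AlgebraicGeometry IsLocalRing TensorProduct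

noncomputable section

namespace Groth.Agent.ZeroAcycLib

/-- A ring with only trivial idempotents has connected spectrum. -/
theorem connectedSpace_of_idempotents (C : Type u) [CommRing C] [Nontrivial C]
    (h : ∀ e : C, IsIdempotentElem e → e = 0 ∨ e = 1) : ConnectedSpace (PrimeSpectrum C) := by
  refine connectedSpace_iff_clopen.2 ⟨inferInstance, fun s hs => ?_⟩
  obtain ⟨e, he, rfl⟩ := PrimeSpectrum.exists_idempotent_basicOpen_eq_of_isClopen hs
  rcases h e he with rfl | rfl
  · left; simp
  · right; simp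

variable {V P RS RX : Type u} [CommRing V] [CommRing P] [CommRing RS] [CommRing RX]
  [IsLocalRing RX] [HenselianLocalRing RS] [IsSepClosed (ResidueField RS)]
  [Algebra V P] [Module.Flat V P] [Algebra V RS] [Algebra V RX] [Algebra P RX]
  [Algebra RS RX] [IsLocalHom (algebraMap RS RX)] [Module.Flat RS RX] [IsScalarTower V P RX]
  [IsScalarTower V RS RX] [Algebra.WeaklyEtale V RS] [Algebra.WeaklyEtale P RX]

/-- The geometric fibres of `Spec RX → Spec RS` are connected. -/
theorem connectedSpace_geomFibre (hP : GenClosed V P) {Ω : Type u} [Field Ω] [IsAlgClosed Ω]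
    (η : Spec (CommRingCat.of Ω) ⟶ Spec (CommRingCat.of RS)) :
    ConnectedSpace ↥(pullback (Spec.map (CommRingCat.ofHom (algebraMap RS RX))) η) := by
  obtain ⟨ω, rfl⟩ := Spec.map_surjective η
  let p := RingHom.ker ω.hom
  haveI : p.IsPrime := RingHom.ker_isPrime _
  let A := RS ⧸ p
  let ω' : A →+* Ω := RingHom.kerLift ω.hom
  have hω' : Function.Injective ω' := RingHom.kerLift_injective ω.hom
  let K := FractionRing A
  let ωK : K →+* Ω := IsFractionRing.lift hω'
  let L := AlgebraicClosure K
  letI : Algebra K Ω := ωK.toAlgebra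
  let j : L →ₐ[K] Ω := IsAlgClosed.lift
  let R' := integralClosure A L
  haveI : Algebra.IsAlgebraic A K := IsLocalization.isAlgebraic K (nonZeroDivisors A)
  haveI : Algebra.IsAlgebraic A L := Algebra.IsAlgebraic.trans A K L
  have hinjAL : ∀ x : A, algebraMap A L x = 0 → x = 0 := fun x hx => by
    rw [IsScalarTower.algebraMap_apply A K L, map_eq_zero, map_eq_zero_iff _ (IsFractionRing.injective A K)] at hx
    exact hx
  haveI : IsFractionRing R' L := integralClosure.isFractionRing_of_algebraic hinjAL
  haveI : IsIntegrallyClosed R' :=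
    (isIntegrallyClosed_iff L).2 fun {x} hx => ⟨⟨x, isIntegral_trans (R := A) x hx⟩, rfl⟩
  letI : Algebra RS R' := ((algebraMap A R').comp (Ideal.Quotient.mk p)).toAlgebra
  haveI : IsScalarTower RS A K := inferInstance
  haveI : IsScalarTower RS A L := IsScalarTower.of_algebraMap_eq fun x => by
    rw [IsScalarTower.algebraMap_apply RS K L, IsScalarTower.algebraMap_apply RS A K,
      ← IsScalarTower.algebraMap_apply A K L]
  haveI : IsScalarTower RS R' L := IsScalarTower.of_algebraMap_eq fun x => IsScalarTower.algebraMap_apply RS A L x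
  haveI : IsScalarTower RS A R' := IsScalarTower.of_algebraMap_eq fun _ => rfl
  haveI : Algebra.IsIntegral RS A := Algebra.IsIntegral.of_surjective (Algebra.ofId RS A) Ideal.Quotient.mk_surjective
  haveI : Algebra.IsIntegral RS R' := Algebra.IsIntegral.trans A
  haveI : IsLocalRing R' := WLocalLib.isLocalRing_of_isIntegral RS R'
  letI : Algebra V R' := ((algebraMap RS R').comp (algebraMap V RS)).toAlgebra
  haveI : IsScalarTower V RS R' := IsScalarTower.of_algebraMap_eq fun _ => rfl
  haveI := SmoothConnLib.isLocalRing_tensor RS RX R'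
  let B := RX ⊗[RS] R'
  let C := RX ⊗[RS] L
  let u : B →ₐ[RS] C := Algebra.TensorProduct.map (AlgHom.id RS RX) (IsScalarTower.toAlgHom RS R' L)
  have hu : Function.Injective u := by
    have h := Module.Flat.lTensor_preserves_injective_linearMap (M := RX)
      (IsScalarTower.toAlgHom RS R' L).toLinearMap (IsFractionRing.injective R' L)
    exact fun a b e => h e
  have hgen : ∀ c : C, ∃ (b : B) (d : R'), d ≠ 0 ∧ c * ((1 : RX) ⊗ₜ[RS] algebraMap R' L d) = u b := by
    intro c
    induction c using TensorProduct.induction_on with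
    | zero => exact ⟨0, 1, one_ne_zero, by rw [zero_mul, map_zero]⟩
    | tmul x l =>
      obtain ⟨⟨a, d⟩, had⟩ := IsLocalization.surj (nonZeroDivisors R') l
      refine ⟨x ⊗ₜ a, d, nonZeroDivisors.ne_zero d.2, ?_⟩
      rw [Algebra.TensorProduct.tmul_mul_tmul, mul_one, had]
      rfl
    | add c₁ c₂ h₁ h₂ =>
      obtain ⟨b₁, d₁, hd₁, e₁⟩ := h₁
      obtain ⟨b₂, d₂, hd₂, e₂⟩ := h₂
      refine ⟨b₁ * ((1 : RX) ⊗ₜ[RS] d₂) + b₂ * ((1 : RX) ⊗ₜ[RS] d₁), d₁ * d₂, mul_ne_zero hd₁ hd₂, ?_⟩
      have hd : ∀ d : R', u ((1 : RX) ⊗ₜ[RS] d) = (1 : RX) ⊗ₜ[RS] algebraMap R' L d := fun d => rfl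
      have hm : ((1 : RX) ⊗ₜ[RS] algebraMap R' L (d₁ * d₂)) =
          ((1 : RX) ⊗ₜ[RS] algebraMap R' L d₁) * ((1 : RX) ⊗ₜ[RS] algebraMap R' L d₂) := by
        rw [Algebra.TensorProduct.tmul_mul_tmul, one_mul, map_mul]
      rw [hm, map_add, map_mul u b₁, map_mul u b₂, hd d₂, hd d₁, ← e₁, ← e₂]
      ring
  haveI : Module.FaithfullyFlat RS RX := Module.FaithfullyFlat.of_flat_of_isLocalHom
  haveI : Nontrivial C := Module.FaithfullyFlat.lTensor_nontrivial RS RX L
  have hdu : ∀ d : R', d ≠ 0 → IsUnit ((1 : RX) ⊗ₜ[RS] algebraMap R' L d : C) := fun d hd =>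
    (isUnit_iff_ne_zero.2 ((map_ne_zero_iff _ (IsFractionRing.injective R' L)).2 hd)).map
      (Algebra.TensorProduct.includeRight (R := RS) (A := RX) (B := L))
  haveI : IsScalarTower V RS A := inferInstance
  haveI : IsScalarTower V RS K := inferInstance
  haveI : IsScalarTower V RS L := IsScalarTower.of_algebraMap_eq fun v => by
    rw [IsScalarTower.algebraMap_apply V K L, IsScalarTower.algebraMap_apply RS K L,
      IsScalarTower.algebraMap_apply V RS K]
  haveI : IsScalarTower V R' L := IsScalarTower.of_algebraMap_eq fun v => by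
    show _ = algebraMap R' L (algebraMap RS R' (algebraMap V RS v))
    rw [IsScalarTower.algebraMap_apply V RS L, IsScalarTower.algebraMap_apply RS R' L]
  let A₁ := P ⊗[V] R'
  let AL := P ⊗[V] L
  let gA : A₁ →ₐ[V] AL := Algebra.TensorProduct.map (AlgHom.id V P) (IsScalarTower.toAlgHom V R' L)
  letI : Algebra A₁ B := (SmoothConnLib.pushHom V P RS RX R').toRingHom.toAlgebra
  haveI : Algebra.WeaklyEtale A₁ B := SmoothConnLib.weaklyEtale_pushHom V P RS RX R'
  letI : Algebra A₁ AL := gA.toRingHom.toAlgebra
  have hclosed : ∀ x : AL, IsIntegral A₁ x → ∃ a, IsNilpotent (x - algebraMap A₁ AL a) := by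
    intro x hx
    let cA := Algebra.TensorProduct.comm V P R'
    let cL := Algebra.TensorProduct.comm V P L
    have hcomm : ∀ y, cL (gA y) = genMap V P R' L (cA y) := by
      intro y
      induction y using TensorProduct.induction_on with
      | zero => simp only [map_zero]
      | tmul p r => rfl
      | add y z hy hz => simp only [map_add, hy, hz]
    obtain ⟨f, hf, hfx⟩ := hx
    have hx' : (genMap V P R' L).toRingHom.IsIntegralElem (cL x) := by
      refine ⟨f.map cA.toRingEquiv.toRingHom, hf.map _, ?_⟩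
      have := congrArg cL.toRingEquiv.toRingHom hfx
      rw [map_zero, Polynomial.hom_eval₂] at this
      rw [Polynomial.eval₂_map]
      rw [show cL.toRingEquiv.toRingHom.comp (algebraMap A₁ AL) =
        (genMap V P R' L).toRingHom.comp cA.toRingEquiv.toRingHom from RingHom.ext fun y => hcomm y] at this
      exact this
    obtain ⟨a, ha⟩ := hP R' L (cL x) hx'
    refine ⟨cA.symm a, ?_⟩
    rw [← IsNilpotent.map_iff (f := cL) cL.injective, map_sub]
    show IsNilpotent (cL x - cL (gA (cA.symm a)))
    rw [hcomm, AlgEquiv.apply_symm_apply]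
    exact ha
  have hidem : ∀ e : C, IsIdempotentElem e → e = 0 ∨ e = 1 := by
    intro e he
    obtain ⟨b, d, hd, hbd⟩ := hgen e
    let s : A₁ := (1 : P) ⊗ₜ[V] d
    have hs : IsUnit (algebraMap A₁ AL s) :=
      (isUnit_iff_ne_zero.2 ((map_ne_zero_iff _ (IsFractionRing.injective R' L)).2 hd)).map
        (Algebra.TensorProduct.includeRight (R := V) (A := P) (B := L))
    have hsB : algebraMap A₁ B s = (1 : RX) ⊗ₜ[RS] d := by
      show SmoothConnLib.pushHom V P RS RX R' ((1 : P) ⊗ₜ[V] d) = _
      rw [SmoothConnLib.pushHom_tmul, map_one]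
    have hud : u (algebraMap A₁ B s) = (1 : RX) ⊗ₜ[RS] algebraMap R' L d := by rw [hsB]; rfl
    have hb : b * b = algebraMap A₁ B s * b := by
      apply hu
      rw [map_mul, map_mul, ← hbd, hud,
        show e * ((1 : RX) ⊗ₜ[RS] algebraMap R' L d) * (e * ((1 : RX) ⊗ₜ[RS] algebraMap R' L d)) =
          (1 : RX) ⊗ₜ[RS] algebraMap R' L d * ((e * e) * ((1 : RX) ⊗ₜ[RS] algebraMap R' L d)) by ring,
        he.eq]
    let gL : AL →ₐ[V] C := SmoothConnLib.pushHom V P RS RX L
    have hgL : ∀ y : A₁, u (algebraMap A₁ B y) = gL (gA y) := by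
      intro y
      show u (SmoothConnLib.pushHom V P RS RX R' y) = gL (gA y)
      induction y using TensorProduct.induction_on with
      | zero => simp only [map_zero]
      | tmul p r =>
        rw [SmoothConnLib.pushHom_tmul]
        show _ = SmoothConnLib.pushHom V P RS RX L (p ⊗ₜ algebraMap R' L r)
        rw [SmoothConnLib.pushHom_tmul]
        rfl
      | add y z hy hz => simp only [map_add, hy, hz]
    letI : Algebra A₁ C := (u.toRingHom.comp (algebraMap A₁ B)).toAlgebra
    let uA : B →ₐ[A₁] C := { toRingHom := u.toRingHom, commutes' := fun _ => rfl }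
    let gLA : AL →ₐ[A₁] C := { toRingHom := gL.toRingHom, commutes' := fun y => (hgL y).symm }
    haveI : IsScalarTower A₁ A₁ B := ⟨fun x y z => by simp only [Algebra.smul_def, smul_eq_mul, map_mul, mul_assoc]⟩
    haveI : IsScalarTower A₁ A₁ C := ⟨fun x y z => by simp only [Algebra.smul_def, smul_eq_mul, map_mul, mul_assoc]⟩
    let Ψ : B ⊗[A₁] AL →ₐ[A₁] C := Algebra.TensorProduct.lift uA gLA fun _ _ => Commute.all _ _
    have h1 : Ψ (b ⊗ₜ[A₁] (1 : AL)) = u b := by
      refine (Algebra.TensorProduct.lift_tmul _ _ _ _ _).trans ?_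
      rw [map_one, mul_one]
      rfl
    have h2 : Ψ ((1 : B) ⊗ₜ[A₁] algebraMap A₁ AL s) = (1 : RX) ⊗ₜ[RS] algebraMap R' L d := by
      refine (Algebra.TensorProduct.lift_tmul _ _ _ _ _).trans ?_
      rw [map_one, one_mul]
      exact (hgL s).symm.trans hud
    have hdunit : IsUnit ((1 : RX) ⊗ₜ[RS] algebraMap R' L d : C) :=
      (isUnit_iff_ne_zero.2 ((map_ne_zero_iff _ (IsFractionRing.injective R' L)).2 hd)).map
        (Algebra.TensorProduct.includeRight (R := RS) (A := RX) (B := L))
    rcases fraction_idempotent_trivial hclosed hs hb with h | h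
    · left
      have := congrArg Ψ h
      rw [h1, map_zero, ← hbd] at this
      exact hdunit.mul_left_eq_zero.1 this
    · right
      have := congrArg Ψ h
      rw [h1, h2, ← hbd] at this
      exact hdunit.mul_right_cancel (this.trans (one_mul _).symm)
  haveI : ConnectedSpace ↥(Spec (CommRingCat.of C)) := connectedSpace_of_idempotents C hidem
  let eL := pullbackSpecIso RS RX L
  haveI : ConnectedSpace ↥(pullback (Spec.map (CommRingCat.ofHom (algebraMap RS RX)))
      (Spec.map (CommRingCat.ofHom (algebraMap RS L)))) :=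
    GeomIrred.connectedSpace_of_surjective eL.inv eL.inv.surjective inferInstance
  have hfac : Spec.map ω =
      Spec.map (CommRingCat.ofHom j.toRingHom) ≫ Spec.map (CommRingCat.ofHom (algebraMap RS L)) := by
    rw [← Spec.map_comp]
    congr 1
    refine CommRingCat.hom_ext (RingHom.ext fun s => ?_)
    show ω.hom s = j (algebraMap A L (Ideal.Quotient.mk p s))
    rw [IsScalarTower.algebraMap_apply A K L, j.commutes]
    exact ((IsFractionRing.lift_algebraMap hω' (Ideal.Quotient.mk p s)).trans (RingHom.kerLift_mk _ _)).symm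
  haveI hgc := GeomIrred.geometricallyConnected_of_connectedSpace (k := L)
    (pullback.snd (Spec.map (CommRingCat.ofHom (algebraMap RS RX))) (Spec.map (CommRingCat.ofHom (algebraMap RS L))))
  rw [hfac]
  let a := Spec.map (CommRingCat.ofHom j.toRingHom)
  let s := pullback.snd (Spec.map (CommRingCat.ofHom (algebraMap RS RX))) (Spec.map (CommRingCat.ofHom (algebraMap RS L)))
  haveI : ConnectedSpace ↥(pullback s a) :=
    hgc.geometrically_connectedSpace a (pullback.fst s a) (pullback.snd s a) (IsPullback.of_hasPullback s a)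
  let e := pullbackLeftPullbackSndIso (Spec.map (CommRingCat.ofHom (algebraMap RS RX)))
    (Spec.map (CommRingCat.ofHom (algebraMap RS L))) a
  exact GeomIrred.connectedSpace_of_surjective e.hom e.hom.surjective inferInstance

end Groth.Agent.ZeroAcycLib
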