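import Groth.Agent.ZeroAcycLib.Closed
import Groth.Agent.S1461
import Groth.Agent.S4848
import Mathlib.AlgebraicGeometry.Morphisms.Affine

/-!
# Generic integral closedness for finitely presented flat algebras
-/

set_option autoImplicit false
set_option linter.style.haveILetI false
set_option linter.unusedSectionVars false
set_option backward.isDefEq.respectTransparency false
set_option maxHeartbeats 800000

universe u

open CategoryTheory CategoryTheory.Limits AlgebraicGeometry TensorProduct Polynomial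

noncomputable section

namespace Groth.Agent.ZeroAcycLib

variable {V P : Type u} [CommRing V] [CommRing P] [Algebra V P]

theorem isReduced_tensor_of_geometricallyReduced {R A : CommRingCat.{u}} (φ : R ⟶ A)
    [GeometricallyReduced (Spec.map φ)] (K : Type u) [Field K] :
    letI := φ.hom.toAlgebra
    ∀ [Algebra R K], _root_.IsReduced (K ⊗[R] A) := by
  letI := φ.hom.toAlgebra
  intro _
  have h : IsReduced (pullback (Spec.map (CommRingCat.ofHom (algebraMap R A)))
      (Spec.map (CommRingCat.ofHom (algebraMap R K)))) :=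
    GeometricallyReduced.geometrically_isReduced (f := Spec.map φ)
      (Spec.map (CommRingCat.ofHom (algebraMap R K))) _ _ (IsPullback.of_hasPullback _ _)
  haveI := h
  haveI : IsReduced (Spec (CommRingCat.of (A ⊗[R] K))) :=
    isReduced_of_isOpenImmersion (pullbackSpecIso R A K).inv
  haveI : _root_.IsReduced (A ⊗[R] K) := (affine_isReduced_iff (CommRingCat.of (A ⊗[R] K))).1 inferInstance
  exact isReduced_of_injective (Algebra.TensorProduct.comm R K A).toRingEquiv.toRingHom
    (Algebra.TensorProduct.comm R K A).injective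

theorem geometricallyReduced_specMap (hred : ∀ (K : Type u) [Field K] [Algebra V K], _root_.IsReduced (K ⊗[V] P)) :
    GeometricallyReduced (Spec.map (CommRingCat.ofHom (algebraMap V P))) := by
  refine ⟨fun K _ y Z fst snd h => ?_⟩
  obtain ⟨ψ, rfl⟩ := Spec.map_surjective y
  letI : Algebra V K := ψ.hom.toAlgebra
  haveI := hred K
  haveI : _root_.IsReduced (P ⊗[V] K) := isReduced_of_injective (Algebra.TensorProduct.comm V P K).toRingEquiv.toRingHom
    (Algebra.TensorProduct.comm V P K).injective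
  haveI : _root_.IsReduced (CommRingCat.of (P ⊗[V] K)) := ‹_›
  haveI : IsReduced (pullback (Spec.map (CommRingCat.ofHom (algebraMap V P))) (Spec.map ψ)) :=
    isReduced_of_isOpenImmersion (pullbackSpecIso V P K).hom
  exact isReduced_of_isOpenImmersion h.isoPullback.hom

/-- A flat finitely presented algebra with geometrically reduced fibres descends to a noetherian base. -/
theorem exists_noetherian_model [Algebra.FinitePresentation V P]
    (hred : ∀ (K : Type u) [Field K] [Algebra V K], _root_.IsReduced (K ⊗[V] P)) :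
    ∃ (V₀ : Type u) (_ : CommRing V₀) (_ : IsNoetherianRing V₀) (_ : Algebra V₀ V) (P₀ : Type u) (_ : CommRing P₀)
      (_ : Algebra V₀ P₀) (_ : Algebra.FiniteType V₀ P₀),
      Nonempty (V ⊗[V₀] P₀ ≃ₐ[V] P) ∧
        ∀ (K : Type u) [Field K] [Algebra V₀ K], _root_.IsReduced (K ⊗[V₀] P₀) := by
  let f := Spec.map (CommRingCat.ofHom (algebraMap V P))
  haveI : LocallyOfFinitePresentation f :=
    (HasRingHomProperty.Spec_iff (P := @LocallyOfFinitePresentation)).2 (RingHom.finitePresentation_algebraMap.2 ‹_›)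
  haveI : GeometricallyReduced f := geometricallyReduced_specMap hred
  obtain ⟨X₀, S₀, f₀, g, g', hX, hS, hsq, hZ, hft, hgr⟩ := S1461.result f
  haveI := hX
  haveI := hS
  have hpo := isPushout_appTop_of_isPullback hsq
  let a : Γ(S₀, ⊤) ⟶ CommRingCat.of V := g.appTop ≫ (Scheme.ΓSpecIso (CommRingCat.of V)).hom
  let b : Γ(X₀, ⊤) ⟶ CommRingCat.of P := g'.appTop ≫ (Scheme.ΓSpecIso (CommRingCat.of P)).hom
  have hpo' : IsPushout f₀.appTop a b (CommRingCat.ofHom (algebraMap V P)) :=
    hpo.of_iso (Iso.refl _) (Iso.refl _) (Scheme.ΓSpecIso (CommRingCat.of V)) (Scheme.ΓSpecIso (CommRingCat.of P))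
      (by simp) (by simp [a]) (by simp [b]) (Scheme.ΓSpecIso_naturality (CommRingCat.ofHom (algebraMap V P)))
  letI : Algebra Γ(S₀, ⊤) V := a.hom.toAlgebra
  letI : Algebra Γ(S₀, ⊤) Γ(X₀, ⊤) := f₀.appTop.hom.toAlgebra
  letI : Algebra Γ(X₀, ⊤) P := b.hom.toAlgebra
  letI : Algebra Γ(S₀, ⊤) P := ((algebraMap V P).comp a.hom).toAlgebra
  haveI : IsScalarTower Γ(S₀, ⊤) V P := IsScalarTower.of_algebraMap_eq fun _ => rfl
  haveI : IsScalarTower Γ(S₀, ⊤) Γ(X₀, ⊤) P := IsScalarTower.of_algebraMap_eq fun x =>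
    (ConcreteCategory.congr_hom hpo'.w x).symm
  haveI hpush : Algebra.IsPushout Γ(S₀, ⊤) V Γ(X₀, ⊤) P :=
    (CommRingCat.isPushout_iff_isPushout).1 hpo'.flip
  haveI : Algebra.FiniteType Γ(S₀, ⊤) Γ(X₀, ⊤) :=
    RingHom.finiteType_algebraMap.1 ((HasRingHomProperty.iff_of_isAffine (P := @LocallyOfFiniteType)).1 hft)
  haveI : GeometricallyReduced (Spec.map f₀.appTop) := by
    have h1 : GeometricallyReduced (f₀ ≫ S₀.isoSpec.hom) :=
      (MorphismProperty.cancel_right_of_respectsIso @GeometricallyReduced f₀ S₀.isoSpec.hom).2 hgr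
    rw [← Scheme.isoSpec_hom_naturality] at h1
    exact (MorphismProperty.cancel_left_of_respectsIso @GeometricallyReduced X₀.isoSpec.hom _).1 h1
  exact ⟨Γ(S₀, ⊤), inferInstance, Algebra.FiniteType.isNoetherianRing ℤ _, inferInstance, Γ(X₀, ⊤), inferInstance,
    inferInstance, inferInstance, ⟨Algebra.IsPushout.equiv Γ(S₀, ⊤) V Γ(X₀, ⊤) P⟩,
    fun K _ => isReduced_tensor_of_geometricallyReduced f₀.appTop K⟩

theorem genClosed_of_finitePresentation [Algebra.FinitePresentation V P] [Module.Flat V P]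
    (hred : ∀ (K : Type u) [Field K] [Algebra V K], _root_.IsReduced (K ⊗[V] P)) : GenClosed V P := by
  classical
  obtain ⟨V₀, _, _, _, P₀, _, _, _, ⟨e⟩, hred₀⟩ := exists_noetherian_model (V := V) (P := P) hred
  haveI : Algebra.FinitePresentation V₀ P₀ := Algebra.FinitePresentation.of_finiteType.1 inferInstance
  haveI : Module.Flat V (V ⊗[V₀] P₀) := Module.Flat.of_linearEquiv e.toLinearEquiv
  let G : Finset V → Type u := fun s => Algebra.adjoin V₀ (s : Set V)
  let g : ∀ s t : Finset V, s ≤ t → G s →ₐ[V₀] G t := fun s t h =>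
    Subalgebra.inclusion (Algebra.adjoin_mono (Finset.coe_subset.2 h))
  have hcolim : FlatCA.IsDirectedColimitRing G (fun i j h => (g i j h).toRingHom) V := by
    refine ⟨inferInstance, inferInstance, fun _ => RingHom.ext fun _ => rfl,
      fun _ _ _ _ _ => RingHom.ext fun _ => rfl, fun _ _ _ => RingHom.ext fun _ => rfl,
      fun v => ⟨{v}, ⟨v, Algebra.subset_adjoin (by simp)⟩, rfl⟩, fun s x hx => ⟨s, le_rfl, ?_⟩⟩
    exact Subtype.ext hx
  obtain ⟨s, hs⟩ := (S4848.result G g V hcolim (B₀ := P₀) P₀).1 inferInstance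
  let V₁ := Algebra.adjoin V₀ (s : Set V)
  haveI : Algebra.FiniteType V₀ V₁ := (Subalgebra.fg_iff_finiteType _).1 ⟨s, rfl⟩
  haveI : IsNoetherianRing V₁ := Algebra.FiniteType.isNoetherianRing V₀ V₁
  haveI : Module.Flat V₁ (V₁ ⊗[V₀] P₀) := hs
  have h₁ : GenClosed V₁ (V₁ ⊗[V₀] P₀) := genClosed_of_noetherian fun K _ _ => by
    letI : Algebra V₀ K := ((algebraMap V₁ K).comp (algebraMap V₀ V₁)).toAlgebra
    haveI : IsScalarTower V₀ V₁ K := IsScalarTower.of_algebraMap_eq fun _ => rfl
    haveI := hred₀ K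
    exact isReduced_of_injective (Algebra.TensorProduct.cancelBaseChange V₀ V₁ K K P₀).toRingEquiv.toRingHom
      (Algebra.TensorProduct.cancelBaseChange V₀ V₁ K K P₀).injective
  exact ((h₁.baseChange (V₁ := V)).congr (Algebra.TensorProduct.cancelBaseChange V₀ V₁ V V P₀)).congr e

end Groth.Agent.ZeroAcycLib
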