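import Groth.Agent.ZeroAcycLib.Connected
import Groth.Agent.ZeroAcycLib.Approx
import Groth.Agent.PullbackMod.Flat
import Mathlib.AlgebraicGeometry.Noetherian

/-!
# Maps of strict localizations of flat morphisms with separable fibres have connected geometric fibres
-/

set_option autoImplicit false
set_option linter.style.haveILetI false
set_option linter.unusedSectionVars false
set_option backward.isDefEq.respectTransparency false
set_option maxHeartbeats 1000000

universe u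

open CategoryTheory CategoryTheory.Limits AlgebraicGeometry IsLocalRing TensorProduct

noncomputable section

namespace Groth.Agent.ZeroAcycLib

/-- The affine charts of `f` are generically integrally closed. -/
def GenClosedCharts {X S : Scheme.{u}} (f : X ⟶ S) : Prop :=
  ∀ (U₀ : S.Opens) (W : X.Opens), IsAffineOpen U₀ → IsAffineOpen W → ∀ hWU : W ≤ f ⁻¹ᵁ U₀,
    letI := (f.appLE U₀ W hWU).hom.toAlgebra
    GenClosed Γ(S, U₀) Γ(X, W)

theorem geometricallyReduced_appLE {X S : Scheme.{u}} (f : X ⟶ S) [GeometricallyReduced f] {U₀ : S.Opens}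
    (hU₀ : IsAffineOpen U₀) {W : X.Opens} (hW : IsAffineOpen W) (hWU : W ≤ f ⁻¹ᵁ U₀) :
    GeometricallyReduced (Spec.map (f.appLE U₀ W hWU)) := by
  refine ⟨fun K _ y Z fst snd h => ?_⟩
  haveI : IsOpenImmersion hU₀.fromSpec := hU₀.isOpenImmersion_fromSpec
  haveI : IsOpenImmersion hW.fromSpec := hW.isOpenImmersion_fromSpec
  have hsq : IsPullback fst snd (hW.fromSpec ≫ f) (y ≫ hU₀.fromSpec) := by
    rw [← IsAffineOpen.SpecMap_appLE_fromSpec f hU₀ hW hWU]
    refine IsPullback.mk' (by rw [← Category.assoc, h.w, Category.assoc]) (fun T φ φ' e₁ e₂ => h.hom_ext e₁ e₂)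
      fun T a b e => ?_
    rw [← Category.assoc, ← Category.assoc, cancel_mono] at e
    exact ⟨h.lift a b e, h.lift_fst _ _ _, h.lift_snd _ _ _⟩
  haveI : IsReduced (pullback f (y ≫ hU₀.fromSpec)) :=
    GeometricallyReduced.geometrically_isReduced _ _ _ (IsPullback.of_hasPullback f (y ≫ hU₀.fromSpec))
  exact isReduced_of_isOpenImmersion
    (hsq.isoPullback.hom ≫ (pullbackRightPullbackFstIso f (y ≫ hU₀.fromSpec) hW.fromSpec).inv ≫ pullback.snd _ _)

/-- Flat morphisms with geometrically reduced fibres have generically integrally closed charts. -/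
theorem genClosedCharts_of_flat {X S : Scheme.{u}} (f : X ⟶ S) [Flat f] [GeometricallyReduced f]
    (h : IsLocallyNoetherian S ∨ LocallyOfFinitePresentation f) : GenClosedCharts f := by
  intro U₀ W hU₀ hW hWU
  letI := (f.appLE U₀ W hWU).hom.toAlgebra
  haveI : Module.Flat Γ(S, U₀) Γ(X, W) :=
    RingHom.flat_algebraMap_iff.1 (HasRingHomProperty.appLE (P := @Flat) f inferInstance ⟨U₀, hU₀⟩ ⟨W, hW⟩ hWU)
  haveI := geometricallyReduced_appLE f hU₀ hW hWU
  have hred : ∀ (K : Type u) [Field K] [Algebra Γ(S, U₀) K], _root_.IsReduced (K ⊗[Γ(S, U₀)] Γ(X, W)) :=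
    fun K _ _ => isReduced_tensor_of_geometricallyReduced (f.appLE U₀ W hWU) K
  rcases h with h | h
  · haveI := h
    haveI : IsNoetherianRing Γ(S, U₀) := IsLocallyNoetherian.component_noetherian ⟨U₀, hU₀⟩
    exact genClosed_of_noetherian hred
  · haveI : Algebra.FinitePresentation Γ(S, U₀) Γ(X, W) := RingHom.finitePresentation_algebraMap.1
      (HasRingHomProperty.appLE (P := @LocallyOfFinitePresentation) f h ⟨U₀, hU₀⟩ ⟨W, hW⟩ hWU)
    exact genClosed_of_finitePresentation hred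

theorem geometricallyReduced_of_forall {X S : Scheme.{u}} (f : X ⟶ S)
    (h : ∀ (K : Type u) [Field K] (k : Spec (CommRingCat.of K) ⟶ S), IsReduced (pullback f k)) :
    GeometricallyReduced f :=
  ⟨fun K _ y Z fst snd hsq => by
    haveI := h K y
    exact isReduced_of_isOpenImmersion hsq.isoPullback.hom⟩

/-- Some affine chart of `f` around `x` is generically integrally closed. -/
def GenClosedAt {X S : Scheme.{u}} (f : X ⟶ S) (x : X) : Prop :=
  ∃ (U₀ : S.Opens) (W : X.Opens) (_ : IsAffineOpen U₀) (_ : IsAffineOpen W) (hWU : W ≤ f ⁻¹ᵁ U₀), x ∈ W ∧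
    letI := (f.appLE U₀ W hWU).hom.toAlgebra
    GenClosed Γ(S, U₀) Γ(X, W)

theorem GenClosedCharts.genClosedAt {X S : Scheme.{u}} {f : X ⟶ S} (h : GenClosedCharts f) (x : X) :
    GenClosedAt f x := by
  obtain ⟨U₀, hU₀, hxU₀, -⟩ := exists_isAffineOpen_mem_and_subset (X := S) (U := ⊤) (x := f.base x) trivial
  obtain ⟨W, hW, hxW, hWU⟩ := exists_isAffineOpen_mem_and_subset (X := X) (U := f ⁻¹ᵁ U₀) (x := x) hxU₀
  exact ⟨U₀, W, hU₀, hW, hWU, hxW, h U₀ W hU₀ hW hWU⟩

open PullbackMod in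
/-- Base change of the charts. -/
theorem genClosedAt_of_isPullback {X S X₁ S₁ : Scheme.{u}} {f : X ⟶ S} (h : GenClosedCharts f)
    {f₁ : X₁ ⟶ S₁} {b' : X₁ ⟶ X} {b : S₁ ⟶ S} (hc : IsPullback b' f₁ f b) (x : X₁) : GenClosedAt f₁ x := by
  obtain ⟨V, hV, hxV, -⟩ := exists_isAffineOpen_mem_and_subset (X := S) (U := ⊤) (x := b (f₁ x)) trivial
  have hx' : b' x ∈ f ⁻¹ᵁ V := by
    show f (b' x) ∈ V
    rwa [← Scheme.Hom.comp_apply, hc.w, Scheme.Hom.comp_apply]
  obtain ⟨W, hW, hxW, e⟩ := exists_isAffineOpen_mem_and_subset (X := X) (U := f ⁻¹ᵁ V) (x := b' x) hx'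
  obtain ⟨V', hV', hxV', e'⟩ := exists_isAffineOpen_mem_and_subset (X := S₁) (U := b ⁻¹ᵁ V) (x := f₁ x) hxV
  obtain ⟨hO, hpo⟩ := isPushout_appLE hc hV hW hV' e e'
  let O := b' ⁻¹ᵁ W ⊓ f₁ ⁻¹ᵁ V'
  refine ⟨V', O, hV', hO, inf_le_right, ⟨hxW, hxV'⟩, ?_⟩
  letI : Algebra Γ(S, V) Γ(X, W) := (f.appLE V W e).hom.toAlgebra
  letI : Algebra Γ(S, V) Γ(S₁, V') := (b.appLE V V' e').hom.toAlgebra
  letI : Algebra Γ(X, W) Γ(X₁, O) := (b'.appLE W O inf_le_left).hom.toAlgebra
  letI : Algebra Γ(S₁, V') Γ(X₁, O) := (f₁.appLE V' O inf_le_right).hom.toAlgebra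
  letI : Algebra Γ(S, V) Γ(X₁, O) := ((b'.appLE W O inf_le_left).hom.comp (f.appLE V W e).hom).toAlgebra
  haveI : IsScalarTower Γ(S, V) Γ(X, W) Γ(X₁, O) := .of_algebraMap_eq fun _ => rfl
  haveI : IsScalarTower Γ(S, V) Γ(S₁, V') Γ(X₁, O) := .of_algebraMap_eq' (by
    show ((f.appLE V W e) ≫ b'.appLE W O inf_le_left).hom = ((b.appLE V V' e') ≫ f₁.appLE V' O inf_le_right).hom
    simp only [Scheme.Hom.appLE_comp_appLE, hc.w])
  haveI : Algebra.IsPushout Γ(S, V) Γ(S₁, V') Γ(X, W) Γ(X₁, O) := hpo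
  exact (h V W hV hW e).baseChange.congr (Algebra.IsPushout.equiv Γ(S, V) Γ(S₁, V') Γ(X, W) Γ(X₁, O))

/-- The maps of strict localizations have connected geometric fibres. -/
theorem connectedSpace_fibre {X S : Scheme.{u}} (f : X ⟶ S) [Flat f] (x : X) (hgen : GenClosedAt f x)
    (RS : Type u) [CommRing RS]
    [IsLocalRing RS] [Algebra (S.presheaf.stalk (f.base x)) RS]
    [IsLocalHom (algebraMap (S.presheaf.stalk (f.base x)) RS)]
    [Hensel.IsStrictHenselization (S.presheaf.stalk (f.base x)) RS]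
    (RX : Type u) [CommRing RX] [IsLocalRing RX] [Algebra (X.presheaf.stalk x) RX]
    [IsLocalHom (algebraMap (X.presheaf.stalk x) RX)] [Hensel.IsStrictHenselization (X.presheaf.stalk x) RX]
    (ψ : RS →+* RX) [IsLocalHom ψ]
    (hψ : ψ.comp (algebraMap (S.presheaf.stalk (f.base x)) RS) =
      (algebraMap (X.presheaf.stalk x) RX).comp (f.stalkMap x).hom)
    (Ω : Type u) [Field Ω] [IsAlgClosed Ω] (η : Spec (CommRingCat.of Ω) ⟶ Spec (CommRingCat.of RS)) :
    ConnectedSpace ↥(pullback (Spec.map (CommRingCat.ofHom ψ)) η) := by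
  obtain ⟨U₀, W, hU₀, hW, hWU, hxW, hP⟩ := hgen
  have hxU₀ : f.base x ∈ U₀ := hWU hxW
  let V := Γ(S, U₀)
  let P := Γ(X, W)
  letI : Algebra V P := (f.appLE U₀ W hWU).hom.toAlgebra
  haveI : Module.Flat V P :=
    RingHom.flat_algebraMap_iff.1 (HasRingHomProperty.appLE (P := @Flat) f inferInstance ⟨U₀, hU₀⟩ ⟨W, hW⟩ hWU)
  letI : Algebra V (S.presheaf.stalk (f.base x)) := (S.presheaf.germ U₀ (f.base x) hxU₀).hom.toAlgebra
  haveI : IsLocalization.AtPrime (S.presheaf.stalk (f.base x)) (hU₀.primeIdealOf ⟨f.base x, hxU₀⟩).asIdeal :=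
    hU₀.isLocalization_stalk ⟨f.base x, hxU₀⟩
  letI : Algebra P (X.presheaf.stalk x) := (X.presheaf.germ W x hxW).hom.toAlgebra
  haveI : IsLocalization.AtPrime (X.presheaf.stalk x) (hW.primeIdealOf ⟨x, hxW⟩).asIdeal :=
    hW.isLocalization_stalk ⟨x, hxW⟩
  haveI := WLocalLib.weaklyEtale_of_isLocalization (B := V) (B' := S.presheaf.stalk (f.base x))
    (hU₀.primeIdealOf ⟨f.base x, hxU₀⟩).asIdeal.primeCompl
  haveI := WLocalLib.weaklyEtale_of_isLocalization (B := P) (B' := X.presheaf.stalk x)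
    (hW.primeIdealOf ⟨x, hxW⟩).asIdeal.primeCompl
  haveI := S1467.weaklyEtale_sh (S.presheaf.stalk (f.base x)) RS
  haveI := S1467.weaklyEtale_sh (X.presheaf.stalk x) RX
  letI : Algebra V RS := ((algebraMap (S.presheaf.stalk (f.base x)) RS).comp
    (algebraMap V (S.presheaf.stalk (f.base x)))).toAlgebra
  haveI : IsScalarTower V (S.presheaf.stalk (f.base x)) RS := IsScalarTower.of_algebraMap_eq fun _ => rfl
  letI : Algebra P RX := ((algebraMap (X.presheaf.stalk x) RX).comp (algebraMap P (X.presheaf.stalk x))).toAlgebra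
  haveI : IsScalarTower P (X.presheaf.stalk x) RX := IsScalarTower.of_algebraMap_eq fun _ => rfl
  haveI : Algebra.WeaklyEtale V RS := Algebra.WeaklyEtale.trans V (S.presheaf.stalk (f.base x)) RS
  haveI : Algebra.WeaklyEtale P RX := Algebra.WeaklyEtale.trans P (X.presheaf.stalk x) RX
  letI : Algebra RS RX := ψ.toAlgebra
  haveI : IsLocalHom (algebraMap RS RX) := ‹IsLocalHom ψ›
  letI : Algebra V RX := ((algebraMap P RX).comp (algebraMap V P)).toAlgebra
  haveI : IsScalarTower V P RX := IsScalarTower.of_algebraMap_eq fun _ => rfl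
  have hg : f.appLE U₀ W hWU ≫ X.presheaf.germ W x hxW = S.presheaf.germ U₀ (f.base x) hxU₀ ≫ f.stalkMap x := by
    rw [Scheme.Hom.germ_stalkMap, Scheme.Hom.appLE, Category.assoc, TopCat.Presheaf.germ_res]
  haveI : IsScalarTower V RS RX := IsScalarTower.of_algebraMap_eq fun v => by
    show algebraMap (X.presheaf.stalk x) RX ((f.appLE U₀ W hWU ≫ X.presheaf.germ W x hxW).hom v) = _
    rw [hg]
    exact (RingHom.congr_fun hψ ((S.presheaf.germ U₀ (f.base x) hxU₀).hom v)).symm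
  haveI := Hensel.IsStrictHenselization.henselian (R := S.presheaf.stalk (f.base x)) (S := RS)
  haveI : IsSepClosed (ResidueField RS) :=
    (Hensel.IsStrictHenselization.isSepClosure (R := S.presheaf.stalk (f.base x)) (S := RS)).sep_closed
  letI : Algebra (S.presheaf.stalk (f.base x)) RX := (ψ.comp (algebraMap (S.presheaf.stalk (f.base x)) RS)).toAlgebra
  haveI : IsScalarTower (S.presheaf.stalk (f.base x)) RS RX := IsScalarTower.of_algebraMap_eq fun _ => rfl
  haveI : Module.Flat (S.presheaf.stalk (f.base x)) RX := by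
    show (ψ.comp (algebraMap (S.presheaf.stalk (f.base x)) RS)).Flat
    rw [hψ]
    exact RingHom.Flat.comp (Flat.stalkMap f x) (RingHom.flat_algebraMap_iff.2 inferInstance)
  haveI : Module.Flat RS RX := WLocalLib.flat_of_weaklyEtale (A := S.presheaf.stalk (f.base x)) RX
  exact connectedSpace_geomFibre (V := V) (P := P) (RX := RX) hP η

end Groth.Agent.ZeroAcycLib
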