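import Groth.Agent.S1467
import Groth.Agent.SmoothConnLib.Domain
import Groth.Agent.SHTensor.Basic
import Mathlib.AlgebraicGeometry.AffineScheme
import Mathlib.AlgebraicGeometry.Stalk

/-!
# Strict henselizations at the image of a strictly henselian local scheme
-/

set_option autoImplicit false
set_option linter.unusedSectionVars false
set_option linter.style.haveILetI false
set_option backward.isDefEq.respectTransparency false
set_option maxHeartbeats 1000000

universe u

open CategoryTheory AlgebraicGeometry IsLocalRing

noncomputable section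

namespace Groth.Agent.ZeroAcycLib

/-- A weakly étale local map to a strictly henselian local ring is a strict henselization. -/
theorem sh_of_strictlyHenselian (A R : Type u) [CommRing A] [IsLocalRing A] [CommRing R] [HenselianLocalRing R]
    [IsSepClosed (ResidueField R)] [Algebra A R] [IsLocalHom (algebraMap A R)] [Algebra.WeaklyEtale A R] :
    Hensel.IsStrictHenselization A R := by
  let S := Henselization.StrictHenselizationRing A
  haveI hSh : Hensel.IsStrictHenselization A S := inferInstance
  haveI : Algebra.IsSeparable (ResidueField A) (ResidueField S) := hSh.isSepClosure.separable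
  let τ : ResidueField S →ₐ[ResidueField A] ResidueField R := IsSepClosed.lift
  obtain ⟨g, ⟨hg1, hg2⟩, -⟩ := hSh.universal R (algebraMap A R) τ.toRingHom (RingHom.ext fun x => τ.commutes x)
  letI := g.toAlgebra
  haveI : IsScalarTower A S R := IsScalarTower.of_algebraMap_eq fun a => (RingHom.congr_fun hg1 a).symm
  haveI : IsLocalHom (algebraMap S R) := ⟨fun x hx => by
    rw [← residue_ne_zero_iff_isUnit] at hx ⊢
    intro h0
    refine hx ?_
    show residue R (g x) = 0
    rw [hg2, h0, map_zero]⟩
  haveI := S1467.weaklyEtale_sh A S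
  haveI : Algebra.WeaklyEtale S R := DRingLib.weaklyEtale_of_restrictScalars A S R
  have hbij := WLocalLib.bijective_of_strictlyHenselian S R ⟨hSh.henselian, hSh.isSepClosure.sep_closed⟩
  exact S1467.isStrictHenselization_of_equiv (AlgEquiv.ofBijective (IsScalarTower.toAlgHom A S R) hbij)

/-- A strictly henselian local ring weakly étale over an affine open is a strict henselization of the
local ring at the image of its closed point. -/
theorem sh_stalkClosedPointTo {X : Scheme.{u}} {P B : CommRingCat.{u}} (j : Spec P ⟶ X) [IsOpenImmersion j]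
    (h : P ⟶ B) [HenselianLocalRing B] [IsSepClosed (ResidueField B)]
    (hwe : letI := h.hom.toAlgebra; Algebra.WeaklyEtale P B) (l : Spec B ⟶ X) (hl : l = Spec.map h ≫ j) :
    letI := (Scheme.stalkClosedPointTo l).hom.toAlgebra
    haveI : IsLocalHom (algebraMap (X.presheaf.stalk (l (closedPoint B))) B) :=
      Scheme.isLocalHom_stalkClosedPointTo l
    Hensel.IsStrictHenselization (X.presheaf.stalk (l (closedPoint B))) B := by
  subst hl
  letI := (Scheme.stalkClosedPointTo (Spec.map h ≫ j)).hom.toAlgebra
  haveI : IsLocalHom (algebraMap (X.presheaf.stalk ((Spec.map h ≫ j) (closedPoint B))) B) :=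
    Scheme.isLocalHom_stalkClosedPointTo _
  let q := Spec.map h (closedPoint B)
  let A₀ := Γ(Spec P, ⊤)
  letI : Algebra P B := h.hom.toAlgebra
  letI : Algebra A₀ P := (Scheme.ΓSpecIso P).hom.hom.toAlgebra
  letI : Algebra A₀ B := ((Scheme.ΓSpecIso P).hom ≫ h).hom.toAlgebra
  haveI : IsScalarTower A₀ P B := IsScalarTower.of_algebraMap_eq fun _ => rfl
  haveI : Algebra.WeaklyEtale A₀ P := GorSp.weaklyEtale_of_algEquiv
    (AlgEquiv.ofBijective (Algebra.ofId A₀ P) (ConcreteCategory.bijective_of_isIso (Scheme.ΓSpecIso P).hom))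
    inferInstance
  haveI : Algebra.WeaklyEtale P B := hwe
  haveI : Algebra.WeaklyEtale A₀ B := Algebra.WeaklyEtale.trans A₀ P B
  let Q := (Spec P).presheaf.stalk q
  letI : Algebra A₀ Q := ((Spec P).presheaf.germ ⊤ q trivial).hom.toAlgebra
  haveI : IsLocalization.AtPrime Q ((isAffineOpen_top (Spec P)).primeIdealOf ⟨q, trivial⟩).asIdeal :=
    (isAffineOpen_top (Spec P)).isLocalization_stalk ⟨q, trivial⟩
  haveI : Algebra.WeaklyEtale A₀ Q := WLocalLib.weaklyEtale_of_isLocalization (B := A₀) (B' := Q)
    ((isAffineOpen_top (Spec P)).primeIdealOf ⟨q, trivial⟩).asIdeal.primeCompl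
  letI : Algebra Q B := (Scheme.stalkClosedPointTo (Spec.map h)).hom.toAlgebra
  haveI : IsScalarTower A₀ Q B := IsScalarTower.of_algebraMap_eq fun a =>
    (ConcreteCategory.congr_hom (Scheme.germ_stalkClosedPointTo_Spec h) a).symm
  haveI : Algebra.WeaklyEtale Q B := DRingLib.weaklyEtale_of_restrictScalars A₀ Q B
  haveI : Algebra.WeaklyEtale (X.presheaf.stalk ((Spec.map h ≫ j) (closedPoint B))) B := by
    let S := X.presheaf.stalk ((Spec.map h ≫ j) (closedPoint B))
    letI : Algebra S Q := (j.stalkMap q).hom.toAlgebra
    haveI : IsScalarTower S Q B := IsScalarTower.of_algebraMap_eq fun a =>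
      ConcreteCategory.congr_hom (Scheme.stalkClosedPointTo_comp (Spec.map h) j) a
    haveI : Algebra.WeaklyEtale S Q := GorSp.weaklyEtale_of_algEquiv
      (AlgEquiv.ofBijective (Algebra.ofId S Q) (ConcreteCategory.bijective_of_isIso (j.stalkMap q))) inferInstance
    exact Algebra.WeaklyEtale.trans S Q B
  exact sh_of_strictlyHenselian _ _

end Groth.Agent.ZeroAcycLib
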