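import Groth.Agent.ZeroAcycLib.Clopen
import Groth.Agent.ZeroAcycLib.SHPoint
import Groth.Agent.GeomIrred.Scheme
import Groth.Prelude.Def_EtAcyc
import Mathlib.RingTheory.Localization.Integral
import Mathlib.AlgebraicGeometry.FunctionField

/-!
# Universally locally 0-acyclic morphisms have connected Milnor fibres
-/

set_option autoImplicit false
set_option linter.unusedSectionVars false
set_option linter.style.haveILetI false
set_option backward.isDefEq.respectTransparency false
set_option maxHeartbeats 1000000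

universe u

open CategoryTheory CategoryTheory.Limits AlgebraicGeometry IsLocalRing TensorProduct Opposite

noncomputable section

namespace Groth.Agent.ZeroAcycLib

/-- The units over a basic open of an acyclic map leave no room for a nontrivial splitting. -/
theorem nilpotent_or_of_zeroAcyclic {R B : Type u} [CommRing R] [IsDomain R] [CommRing B] [Algebra R B]
    (h : EtAcyc.IsZeroAcyclic (Spec.map (CommRingCat.ofHom (algebraMap R B)))) {a : R} (ha : a ≠ 0) {b b' : B}
    (h0 : algebraMap R B a * (b * b') = 0) {d : R} (hd : algebraMap R B d = b - b') (hda : d ∣ a) :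
    IsNilpotent (algebraMap R B a * b) ∨ IsNilpotent (algebraMap R B a * b') := by
  let φ := Spec.map (CommRingCat.ofHom (algebraMap R B))
  let D : (Spec (CommRingCat.of R)).Opens := PrimeSpectrum.basicOpen a
  let V : (Spec (CommRingCat.of R)).Etale := Scheme.Etale.mk D.ι
  let π := EtAcyc.prj φ V
  let q : pullback V.hom φ ⟶ Spec (CommRingCat.of B) := pullback.snd V.hom φ
  haveI : Nonempty D.toScheme := ⟨⟨(⟨⊥, Ideal.isPrime_bot⟩ : PrimeSpectrum R), fun h' => ha h'⟩⟩
  haveI : IsIntegral (Spec (CommRingCat.of R)) := inferInstance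
  haveI : IsIntegral D.toScheme := isIntegral_of_isOpenImmersion D.ι
  haveI : IrreducibleSpace V.left := inferInstanceAs (IrreducibleSpace D.toScheme)
  have hq : ∀ z, algebraMap R B a ∉ (q z).asIdeal := by
    intro z hz
    have hc : (D.ι (π z) : Spec (CommRingCat.of R)) = φ (q z) :=
      (Scheme.Hom.comp_apply π D.ι z).symm.trans
        ((congrArg (fun m : pullback V.hom φ ⟶ Spec (CommRingCat.of R) => m z) pullback.condition).trans
          (Scheme.Hom.comp_apply q φ z))
    have hm : (D.ι (π z) : Spec (CommRingCat.of R)) ∈ D := (π z : D.toScheme).2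
    rw [hc] at hm
    exact hm hz
  let O₁ : Set (PrimeSpectrum B) := PrimeSpectrum.basicOpen b
  let O₂ : Set (PrimeSpectrum B) := PrimeSpectrum.basicOpen b'
  have hcompl : (q ⁻¹' O₁)ᶜ = q ⁻¹' O₂ := by
    ext z
    have h1 : algebraMap R B a * (b * b') ∈ (q z).asIdeal := by rw [h0]; exact zero_mem _
    have h2 : b ∈ (q z).asIdeal ∨ b' ∈ (q z).asIdeal :=
      (q z).isPrime.mem_or_mem (((q z).isPrime.mem_or_mem h1).resolve_left (hq z))
    constructor
    · intro hb hb'
      have hb : b ∈ (q z).asIdeal := not_not.1 hb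
      obtain ⟨c, rfl⟩ := hda
      refine hq z ?_
      rw [map_mul, hd]
      exact Ideal.mul_mem_right _ _ (sub_mem hb hb')
    · intro hb' hb
      rcases h2 with h2 | h2
      · exact hb h2
      · exact hb' h2
  have hC : IsClopen (q ⁻¹' O₁) := by
    refine ⟨⟨?_⟩, (PrimeSpectrum.basicOpen b).isOpen.preimage q.continuous⟩
    rw [hcompl]
    exact (PrimeSpectrum.basicOpen b').isOpen.preimage q.continuous
  have hlift : ∀ P : Spec (CommRingCat.of B), algebraMap R B a ∉ P.asIdeal → ∃ z, q z = P := by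
    intro P hP
    have hmem : φ P ∈ D := hP
    obtain ⟨z, -, hz⟩ := Scheme.Pullback.exists_preimage_pullback (f := V.hom) (g := φ)
      (⟨φ P, hmem⟩ : D.toScheme) P rfl
    exact ⟨z, hz⟩
  rcases eq_empty_or_univ_of_unit π (fun F => h V F) hC with hs | hs
  · left
    rw [← mem_nilradical, nilradical_eq_sInf, Submodule.mem_sInf]
    intro p hp
    by_contra hab
    obtain ⟨z, hz⟩ := hlift ⟨p, hp⟩ fun h' => hab (Ideal.mul_mem_right _ p h')
    have : z ∈ q ⁻¹' O₁ := by
      show b ∉ (q z).asIdeal
      rw [hz]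
      exact fun h' => hab (Ideal.mul_mem_left p _ h')
    rw [hs] at this
    exact this
  · right
    rw [← mem_nilradical, nilradical_eq_sInf, Submodule.mem_sInf]
    intro p hp
    by_contra hab
    obtain ⟨z, hz⟩ := hlift ⟨p, hp⟩ fun h' => hab (Ideal.mul_mem_right _ p h')
    have : z ∈ (q ⁻¹' O₁)ᶜ := by
      rw [hcompl]
      show b' ∉ (q z).asIdeal
      rw [hz]
      exact fun h' => hab (Ideal.mul_mem_left p _ h')
    rw [hs, Set.compl_univ] at this
    exact this

/-- The germ of a global section at the image of a closed point. -/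
theorem germ_top_stalkClosedPointTo {X : Scheme.{u}} {P B : CommRingCat.{u}} [IsLocalRing B] (j : Spec P ⟶ X)
    (h : P ⟶ B) :
    X.presheaf.germ ⊤ ((Spec.map h ≫ j) (closedPoint B)) trivial ≫ Scheme.stalkClosedPointTo (Spec.map h ≫ j) =
      j.appTop ≫ (Scheme.ΓSpecIso P).hom ≫ h := by
  rw [Scheme.stalkClosedPointTo_comp]
  refine (Scheme.Hom.germ_stalkMap_assoc j ⊤ _ trivial _).trans ?_
  exact congrArg (j.appTop ≫ ·) (Scheme.germ_stalkClosedPointTo_Spec h)

/-- Strict localization data of the base change to a strictly local integral base. -/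
theorem zeroAcyclic_tensor {X S : Scheme.{u}} (g : X ⟶ S) (hg : EtAcyc.IsULocZeroAcyclic g)
    {U₀ : S.Opens} (hU₀ : IsAffineOpen U₀) {W : X.Opens} (hW : IsAffineOpen W) (hWU : W ≤ g ⁻¹ᵁ U₀)
    {RS RX R' : Type u} [CommRing RS] [HenselianLocalRing RS] [IsSepClosed (ResidueField RS)]
    [CommRing RX] [HenselianLocalRing RX] [IsSepClosed (ResidueField RX)] [CommRing R'] [IsLocalRing R']
    [Algebra Γ(S, U₀) RS] [Algebra Γ(X, W) RX] [Algebra.WeaklyEtale Γ(S, U₀) RS] [Algebra.WeaklyEtale Γ(X, W) RX]
    [Algebra RS RX] [IsLocalHom (algebraMap RS RX)] [Algebra RS R'] [Algebra.IsIntegral RS R']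
    (hcomp : (algebraMap RS RX).comp (algebraMap Γ(S, U₀) RS) =
      (algebraMap Γ(X, W) RX).comp (g.appLE U₀ W hWU).hom) :
    EtAcyc.IsZeroAcyclic (Spec.map (CommRingCat.ofHom
      (Algebra.TensorProduct.includeRight (R := RS) (A := RX) (B := R')).toRingHom)) := by
  let V := Γ(S, U₀)
  let P := Γ(X, W)
  letI : Algebra V P := (g.appLE U₀ W hWU).hom.toAlgebra
  letI : Algebra V RX := ((algebraMap P RX).comp (algebraMap V P)).toAlgebra
  haveI : IsScalarTower V P RX := IsScalarTower.of_algebraMap_eq fun _ => rfl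
  haveI : IsScalarTower V RS RX := IsScalarTower.of_algebraMap_eq fun v => (RingHom.congr_fun hcomp v).symm
  letI : Algebra V R' := ((algebraMap RS R').comp (algebraMap V RS)).toAlgebra
  haveI : IsScalarTower V RS R' := IsScalarTower.of_algebraMap_eq fun _ => rfl
  haveI : HenselianLocalRing R' := SHTensor.henselian_of_isIntegral RS R'
  haveI : IsLocalHom (algebraMap RS R') := SHTensor.isLocalHom_of_isIntegral RS R'
  haveI : IsSepClosed (ResidueField R') := SHTensor.isSepClosed_residue_of_isIntegral RS R'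
  let B := RX ⊗[RS] R'
  haveI : IsLocalRing B := SmoothConnLib.isLocalRing_tensor RS RX R'
  haveI : Algebra.IsIntegral RX B := Algebra.IsIntegral.tensorProduct RS RX R'
  haveI : HenselianLocalRing B := SHTensor.henselian_of_isIntegral RX B
  haveI : IsLocalHom (algebraMap RX B) := SHTensor.isLocalHom_of_isIntegral RX B
  haveI : IsSepClosed (ResidueField B) := SHTensor.isSepClosed_residue_of_isIntegral RX B
  let ψ₁ : R' →+* B := (Algebra.TensorProduct.includeRight (R := RS) (A := RX) (B := R')).toRingHom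
  have hψS : ψ₁.comp (algebraMap RS R') = (algebraMap RX B).comp (algebraMap RS RX) := by
    ext s
    show (1 : RX) ⊗ₜ[RS] algebraMap RS R' s = algebraMap RS RX s ⊗ₜ[RS] (1 : R')
    rw [Algebra.algebraMap_eq_smul_one, Algebra.algebraMap_eq_smul_one, TensorProduct.tmul_smul,
      TensorProduct.smul_tmul']
  haveI hψ₁ : IsLocalHom ψ₁ := by
    refine ⟨fun r hr => ?_⟩
    by_contra hn
    have hmax : ((maximalIdeal B).comap ψ₁).IsMaximal := by
      haveI : ((maximalIdeal B).comap ψ₁).IsPrime := Ideal.IsPrime.comap ψ₁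
      refine Ideal.isMaximal_of_isIntegral_of_isMaximal_comap (R := RS) _ ?_
      rw [Ideal.comap_comap, hψS, ← Ideal.comap_comap]
      rw [((local_hom_TFAE (algebraMap RX B)).out 0 4 rfl rfl).1 ‹IsLocalHom (algebraMap RX B)›,
        ((local_hom_TFAE (algebraMap RS RX)).out 0 4 rfl rfl).1 ‹IsLocalHom (algebraMap RS RX)›]
      exact maximalIdeal.isMaximal RS
    have : r ∈ (maximalIdeal B).comap ψ₁ := by
      rw [IsLocalRing.eq_maximalIdeal hmax]
      exact hn
    exact (mem_maximalIdeal _).1 this hr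
  -- the chart of the base change
  let P₁ := P ⊗[V] R'
  let h₁ : CommRingCat.of P₁ ⟶ CommRingCat.of B :=
    CommRingCat.ofHom (SmoothConnLib.pushHom V P RS RX R').toRingHom
  have hwe : letI := h₁.hom.toAlgebra; Algebra.WeaklyEtale P₁ B :=
    SmoothConnLib.weaklyEtale_pushHom V P RS RX R'
  haveI : IsOpenImmersion hU₀.fromSpec := hU₀.isOpenImmersion_fromSpec
  haveI : IsOpenImmersion hW.fromSpec := hW.isOpenImmersion_fromSpec
  let b : Spec (CommRingCat.of R') ⟶ S := Spec.map (CommRingCat.ofHom (algebraMap V R')) ≫ hU₀.fromSpec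
  have hsq : IsPullback (Spec.map (CommRingCat.ofHom (Algebra.TensorProduct.includeLeftRingHom : P →+* P₁)))
      (Spec.map (CommRingCat.ofHom (Algebra.TensorProduct.includeRight (R := V) (A := P) (B := R')).toRingHom))
      (hW.fromSpec ≫ g) b := by
    have h0 := isPullback_SpecMap_of_isPushout _ _ _ _ (CommRingCat.isPushout_tensorProduct V P R')
    rw [← IsAffineOpen.SpecMap_appLE_fromSpec g hU₀ hW hWU]
    refine IsPullback.mk' (by rw [← Category.assoc, ← Category.assoc]; exact congrArg (· ≫ hU₀.fromSpec) h0.w)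
      (fun T φ φ' e₁ e₂ => h0.hom_ext e₁ e₂) fun T c c' e => ?_
    rw [← Category.assoc, ← Category.assoc, cancel_mono] at e
    exact ⟨h0.lift c c' e, h0.lift_fst _ _ _, h0.lift_snd _ _ _⟩
  let j : Spec (CommRingCat.of P₁) ⟶ pullback g b :=
    hsq.isoPullback.hom ≫ (pullbackRightPullbackFstIso g b hW.fromSpec).inv ≫ pullback.snd _ _
  let g₁ : pullback g b ⟶ Spec (CommRingCat.of R') := pullback.snd g b
  have hj : j ≫ g₁ =
      Spec.map (CommRingCat.ofHom (Algebra.TensorProduct.includeRight (R := V) (A := P) (B := R')).toRingHom) := by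
    simp only [j, g₁, Category.assoc]
    rw [pullbackRightPullbackFstIso_inv_snd_snd, IsPullback.isoPullback_hom_snd]
  have hh : CommRingCat.ofHom (Algebra.TensorProduct.includeRight (R := V) (A := P) (B := R')).toRingHom ≫ h₁ =
      CommRingCat.ofHom ψ₁ := CommRingCat.hom_ext (RingHom.ext fun r => by
    show SmoothConnLib.pushHom V P RS RX R' ((1 : P) ⊗ₜ[V] r) = (1 : RX) ⊗ₜ[RS] r
    rw [SmoothConnLib.pushHom_tmul, map_one])
  let l : Spec (CommRingCat.of B) ⟶ pullback g b := Spec.map h₁ ≫ j
  let x₁ := l (closedPoint B)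
  have hy : g₁ x₁ = closedPoint R' := by
    show g₁ (l (closedPoint B)) = _
    rw [← Scheme.Hom.comp_apply, show l ≫ g₁ = Spec.map (CommRingCat.ofHom ψ₁) by
      rw [← hh, Spec.map_comp, ← hj]; exact Category.assoc _ _ _]
    exact Spec_closedPoint (f := CommRingCat.ofHom ψ₁)
  letI : Algebra ((pullback g b).presheaf.stalk x₁) B := (Scheme.stalkClosedPointTo l).hom.toAlgebra
  haveI hlB : IsLocalHom (algebraMap ((pullback g b).presheaf.stalk x₁) B) :=
    Scheme.isLocalHom_stalkClosedPointTo l
  haveI : Hensel.IsStrictHenselization ((pullback g b).presheaf.stalk x₁) B :=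
    sh_stalkClosedPointTo (X := pullback g b) (P := CommRingCat.of P₁) (B := CommRingCat.of B) j h₁ hwe l rfl
  let α : (Spec (CommRingCat.of R')).presheaf.stalk (g₁ x₁) ⟶ CommRingCat.of R' :=
    ((Spec (CommRingCat.of R')).presheaf.stalkCongr (Inseparable.of_eq hy)).hom ≫
      (stalkClosedPointIso (CommRingCat.of R')).hom
  letI : Algebra ((Spec (CommRingCat.of R')).presheaf.stalk (g₁.base x₁)) R' := α.hom.toAlgebra
  have hbij : Function.Bijective (algebraMap ((Spec (CommRingCat.of R')).presheaf.stalk (g₁.base x₁)) R') :=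
    ConcreteCategory.bijective_of_isIso α
  haveI : IsLocalHom (algebraMap ((Spec (CommRingCat.of R')).presheaf.stalk (g₁.base x₁)) R') :=
    IsLocalHom.of_surjective _ hbij.2
  haveI : Algebra.WeaklyEtale ((Spec (CommRingCat.of R')).presheaf.stalk (g₁.base x₁)) R' :=
    GorSp.weaklyEtale_of_algEquiv (AlgEquiv.ofBijective (Algebra.ofId _ R') hbij) inferInstance
  haveI : Hensel.IsStrictHenselization ((Spec (CommRingCat.of R')).presheaf.stalk (g₁.base x₁)) R' :=
    sh_of_strictlyHenselian _ _
  letI : Algebra R' B := ψ₁.toAlgebra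
  haveI : IsLocalHom (algebraMap R' B) := hψ₁
  refine hg g₁ (pullback.fst g b) b (IsPullback.of_hasPullback g b) x₁ R' B ?_
  have key : α ≫ CommRingCat.ofHom ψ₁ = g₁.stalkMap x₁ ≫ Scheme.stalkClosedPointTo l := by
    refine TopCat.Presheaf.stalk_hom_ext _ fun U hU => ?_
    obtain rfl : U = ⊤ := IsLocalRing.closedPoint_mem_iff _ |>.1 (by rwa [hy] at hU)
    simp only [α, TopCat.Presheaf.stalkCongr_hom, ← Category.assoc, TopCat.Presheaf.germ_stalkSpecializes]
    rw [germ_stalkClosedPointIso_hom, Scheme.Hom.germ_stalkMap, Category.assoc]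
    refine Eq.trans ?_ (congrArg (Scheme.Hom.app g₁ ⊤ ≫ ·) (germ_top_stalkClosedPointTo j h₁)).symm
    rw [← hh, ← Category.assoc, ← Category.assoc, ← Category.assoc]
    refine congrArg (· ≫ h₁) ?_
    refine (Scheme.ΓSpecIso_naturality _).symm.trans ?_
    rw [← hj]
    rfl
  exact congrArg CommRingCat.Hom.hom key

/-- The geometric fibres of maps of strict localizations of universally locally 0-acyclic morphisms
are connected. -/
theorem connectedSpace_fibre_of_acyclic {X S : Scheme.{u}} (g : X ⟶ S) (hg : EtAcyc.IsULocZeroAcyclic g) (x : X)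
    (RS : Type u) [CommRing RS]
    [IsLocalRing RS] [Algebra (S.presheaf.stalk (g.base x)) RS]
    [IsLocalHom (algebraMap (S.presheaf.stalk (g.base x)) RS)]
    [Hensel.IsStrictHenselization (S.presheaf.stalk (g.base x)) RS]
    (RX : Type u) [CommRing RX] [IsLocalRing RX] [Algebra (X.presheaf.stalk x) RX]
    [IsLocalHom (algebraMap (X.presheaf.stalk x) RX)] [Hensel.IsStrictHenselization (X.presheaf.stalk x) RX]
    (ψ : RS →+* RX) [IsLocalHom ψ]
    (hψ : ψ.comp (algebraMap (S.presheaf.stalk (g.base x)) RS) =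
      (algebraMap (X.presheaf.stalk x) RX).comp (g.stalkMap x).hom)
    (Ω : Type u) [Field Ω] [IsAlgClosed Ω] (η : Spec (CommRingCat.of Ω) ⟶ Spec (CommRingCat.of RS)) :
    ConnectedSpace ↥(pullback (Spec.map (CommRingCat.ofHom ψ)) η) := by
  obtain ⟨U₀, hU₀, hxU₀, -⟩ := exists_isAffineOpen_mem_and_subset (X := S) (U := ⊤) (x := g.base x) trivial
  obtain ⟨W, hW, hxW, hWU⟩ := exists_isAffineOpen_mem_and_subset (X := X) (U := g ⁻¹ᵁ U₀) (x := x) hxU₀
  let V := Γ(S, U₀)
  let P := Γ(X, W)
  letI : Algebra V (S.presheaf.stalk (g.base x)) := (S.presheaf.germ U₀ (g.base x) hxU₀).hom.toAlgebra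
  haveI : IsLocalization.AtPrime (S.presheaf.stalk (g.base x)) (hU₀.primeIdealOf ⟨g.base x, hxU₀⟩).asIdeal :=
    hU₀.isLocalization_stalk ⟨g.base x, hxU₀⟩
  letI : Algebra P (X.presheaf.stalk x) := (X.presheaf.germ W x hxW).hom.toAlgebra
  haveI : IsLocalization.AtPrime (X.presheaf.stalk x) (hW.primeIdealOf ⟨x, hxW⟩).asIdeal :=
    hW.isLocalization_stalk ⟨x, hxW⟩
  haveI := WLocalLib.weaklyEtale_of_isLocalization (B := V) (B' := S.presheaf.stalk (g.base x))
    (hU₀.primeIdealOf ⟨g.base x, hxU₀⟩).asIdeal.primeCompl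
  haveI := WLocalLib.weaklyEtale_of_isLocalization (B := P) (B' := X.presheaf.stalk x)
    (hW.primeIdealOf ⟨x, hxW⟩).asIdeal.primeCompl
  haveI := S1467.weaklyEtale_sh (S.presheaf.stalk (g.base x)) RS
  haveI := S1467.weaklyEtale_sh (X.presheaf.stalk x) RX
  letI : Algebra V RS := ((algebraMap (S.presheaf.stalk (g.base x)) RS).comp
    (algebraMap V (S.presheaf.stalk (g.base x)))).toAlgebra
  haveI : IsScalarTower V (S.presheaf.stalk (g.base x)) RS := IsScalarTower.of_algebraMap_eq fun _ => rfl
  letI : Algebra P RX := ((algebraMap (X.presheaf.stalk x) RX).comp (algebraMap P (X.presheaf.stalk x))).toAlgebra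
  haveI : IsScalarTower P (X.presheaf.stalk x) RX := IsScalarTower.of_algebraMap_eq fun _ => rfl
  haveI : Algebra.WeaklyEtale V RS := Algebra.WeaklyEtale.trans V (S.presheaf.stalk (g.base x)) RS
  haveI : Algebra.WeaklyEtale P RX := Algebra.WeaklyEtale.trans P (X.presheaf.stalk x) RX
  letI : Algebra RS RX := ψ.toAlgebra
  haveI : IsLocalHom (algebraMap RS RX) := ‹IsLocalHom ψ›
  haveI := Hensel.IsStrictHenselization.henselian (R := S.presheaf.stalk (g.base x)) (S := RS)
  haveI := Hensel.IsStrictHenselization.henselian (R := X.presheaf.stalk x) (S := RX)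
  haveI : IsSepClosed (ResidueField RS) :=
    (Hensel.IsStrictHenselization.isSepClosure (R := S.presheaf.stalk (g.base x)) (S := RS)).sep_closed
  haveI : IsSepClosed (ResidueField RX) :=
    (Hensel.IsStrictHenselization.isSepClosure (R := X.presheaf.stalk x) (S := RX)).sep_closed
  have hcomp : (algebraMap RS RX).comp (algebraMap V RS) =
      (algebraMap P RX).comp (g.appLE U₀ W hWU).hom := by
    have hga : g.appLE U₀ W hWU ≫ X.presheaf.germ W x hxW = S.presheaf.germ U₀ (g.base x) hxU₀ ≫ g.stalkMap x := by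
      rw [Scheme.Hom.germ_stalkMap, Scheme.Hom.appLE, Category.assoc, TopCat.Presheaf.germ_res]
    ext v
    show ψ (algebraMap (S.presheaf.stalk (g.base x)) RS ((S.presheaf.germ U₀ (g.base x) hxU₀).hom v)) =
      algebraMap (X.presheaf.stalk x) RX ((g.appLE U₀ W hWU ≫ X.presheaf.germ W x hxW).hom v)
    rw [hga]
    exact RingHom.congr_fun hψ _
  obtain ⟨ω, rfl⟩ := Spec.map_surjective η
  let p := RingHom.ker ω.hom
  haveI : p.IsPrime := RingHom.ker_isPrime _
  let A := RS ⧸ p
  let ω' : A →+* Ω := RingHom.kerLift ω.hom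
  have hω' : Function.Injective ω' := RingHom.kerLift_injective ω.hom
  let K := FractionRing A
  let ωK : K →+* Ω := IsFractionRing.lift hω'
  let L := AlgebraicClosure K
  letI : Algebra K Ω := ωK.toAlgebra
  let j : L →ₐ[K] Ω := IsAlgClosed.lift
  let R' := integralClosure A L
  haveI : Algebra.IsAlgebraic A K := IsLocalization.isAlgebraic K (nonZeroDivisors A)
  haveI : Algebra.IsAlgebraic A L := Algebra.IsAlgebraic.trans A K L
  have hinjAL : ∀ x : A, algebraMap A L x = 0 → x = 0 := fun x hx => by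
    rw [IsScalarTower.algebraMap_apply A K L, map_eq_zero, map_eq_zero_iff _ (IsFractionRing.injective A K)] at hx
    exact hx
  haveI : IsFractionRing R' L := integralClosure.isFractionRing_of_algebraic hinjAL
  letI : Algebra RS R' := ((algebraMap A R').comp (Ideal.Quotient.mk p)).toAlgebra
  haveI : IsScalarTower RS A K := inferInstance
  haveI : IsScalarTower RS A L := IsScalarTower.of_algebraMap_eq fun x => by
    rw [IsScalarTower.algebraMap_apply RS K L, IsScalarTower.algebraMap_apply RS A K,
      ← IsScalarTower.algebraMap_apply A K L]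
  haveI : IsScalarTower RS R' L := IsScalarTower.of_algebraMap_eq fun x => IsScalarTower.algebraMap_apply RS A L x
  haveI : IsScalarTower RS A R' := IsScalarTower.of_algebraMap_eq fun _ => rfl
  haveI : Algebra.IsIntegral RS A := Algebra.IsIntegral.of_surjective (Algebra.ofId RS A) Ideal.Quotient.mk_surjective
  haveI : Algebra.IsIntegral RS R' := Algebra.IsIntegral.trans A
  haveI : IsLocalRing R' := WLocalLib.isLocalRing_of_isIntegral RS R'
  have hacy := zeroAcyclic_tensor g hg hU₀ hW hWU (RS := RS) (RX := RX) (R' := R') hcomp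
  let B := RX ⊗[RS] R'
  let C := RX ⊗[RS] L
  letI : Algebra R' B := (Algebra.TensorProduct.includeRight (R := RS) (A := RX) (B := R')).toRingHom.toAlgebra
  let u : B →ₐ[RS] C := Algebra.TensorProduct.map (AlgHom.id RS RX) (IsScalarTower.toAlgHom RS R' L)
  have hud : ∀ d : R', u (algebraMap R' B d) = (1 : RX) ⊗ₜ[RS] algebraMap R' L d := fun d => rfl
  have hdu : ∀ d : R', d ≠ 0 → IsUnit ((1 : RX) ⊗ₜ[RS] algebraMap R' L d : C) := fun d hd =>
    (isUnit_iff_ne_zero.2 ((map_ne_zero_iff _ (IsFractionRing.injective R' L)).2 hd)).map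
      (Algebra.TensorProduct.includeRight (R := RS) (A := RX) (B := L))
  have hgen : ∀ c : C, ∃ (b : B) (d : R'), d ≠ 0 ∧ c * u (algebraMap R' B d) = u b := by
    intro c
    induction c using TensorProduct.induction_on with
    | zero => exact ⟨0, 1, one_ne_zero, by rw [zero_mul, map_zero]⟩
    | tmul x l =>
      obtain ⟨⟨a, d⟩, had⟩ := IsLocalization.surj (nonZeroDivisors R') l
      refine ⟨x ⊗ₜ a, d, nonZeroDivisors.ne_zero d.2, ?_⟩
      rw [hud, Algebra.TensorProduct.tmul_mul_tmul, mul_one, had]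
      rfl
    | add c₁ c₂ h₁ h₂ =>
      obtain ⟨b₁, d₁, hd₁, e₁⟩ := h₁
      obtain ⟨b₂, d₂, hd₂, e₂⟩ := h₂
      refine ⟨b₁ * algebraMap R' B d₂ + b₂ * algebraMap R' B d₁, d₁ * d₂, mul_ne_zero hd₁ hd₂, ?_⟩
      rw [map_mul (algebraMap R' B), map_mul u, map_add, map_mul u b₁, map_mul u b₂, ← e₁, ← e₂]
      ring
  let M := Algebra.algebraMapSubmonoid B (nonZeroDivisors R')
  have hker : ∀ z : B, u z = 0 → ∃ d : R', d ≠ 0 ∧ algebraMap R' B d * z = 0 := by
    intro z hz
    let BM := Localization M
    let iM : B →ₐ[RS] BM := IsScalarTower.toAlgHom RS B BM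
    have hunit : ∀ d : nonZeroDivisors R', IsUnit ((algebraMap B BM).comp (algebraMap R' B) (d : R')) := fun d =>
      IsLocalization.map_units BM (⟨algebraMap R' B d, Algebra.mem_algebraMapSubmonoid_of_mem d⟩ : M)
    let lr : L →+* BM :=
      IsLocalization.lift (M := nonZeroDivisors R') (S := L) (P := BM) (g := (algebraMap B BM).comp (algebraMap R' B)) hunit
    let lL : L →ₐ[RS] BM :=
      { toRingHom := lr
        commutes' := fun s => by
          show lr (algebraMap RS L s) = _
          rw [IsScalarTower.algebraMap_apply RS R' L, show lr (algebraMap R' L (algebraMap RS R' s)) = _ from IsLocalization.lift_eq hunit _]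
          show algebraMap B BM ((1 : RX) ⊗ₜ[RS] algebraMap RS R' s) = _
          rw [IsScalarTower.algebraMap_apply RS B BM]
          refine congrArg _ ?_
          exact ((Algebra.TensorProduct.includeRight (R := RS) (A := RX) (B := R')).commutes s) }
    let back : C →ₐ[RS] BM := Algebra.TensorProduct.lift (iM.comp Algebra.TensorProduct.includeLeft) lL
      fun a c => @mul_comm BM _ ((iM.comp Algebra.TensorProduct.includeLeft) a) (lL c)
    have hb : back.comp u = iM := by
      refine Algebra.TensorProduct.ext' fun x r => ?_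
      show back (x ⊗ₜ[RS] algebraMap R' L r) = algebraMap B BM (x ⊗ₜ[RS] r)
      refine (Algebra.TensorProduct.lift_tmul _ _ _ _ _).trans ?_
      show algebraMap B BM (x ⊗ₜ[RS] (1 : R')) * lr (algebraMap R' L r) = _
      rw [show lr (algebraMap R' L r) = _ from IsLocalization.lift_eq hunit _]
      show algebraMap B BM (x ⊗ₜ[RS] (1 : R')) * algebraMap B BM ((1 : RX) ⊗ₜ[RS] r) = _
      rw [← map_mul, Algebra.TensorProduct.tmul_mul_tmul, mul_one, one_mul]
    have h0 : algebraMap B BM z = 0 := by
      show iM z = 0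
      rw [← hb, AlgHom.comp_apply, hz, map_zero]
    obtain ⟨⟨m, d, hd, rfl⟩, hm⟩ := (IsLocalization.map_eq_zero_iff M BM z).1 h0
    exact ⟨d, nonZeroDivisors.ne_zero hd, hm⟩
  have hidem : ∀ e : C, IsIdempotentElem e → e = 0 ∨ e = 1 := by
    intro e he
    obtain ⟨b, d, hd, hbd⟩ := hgen e
    obtain ⟨d', hd', hz⟩ := hker (b * (b - algebraMap R' B d)) (by
      rw [map_mul, map_sub, ← hbd]
      have := he.eq
      linear_combination (u (algebraMap R' B d)) * (u (algebraMap R' B d)) * this)
    have ha : d * d' ≠ 0 := mul_ne_zero hd hd'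
    have hdu' : IsUnit (u (algebraMap R' B (d * d'))) := by rw [hud]; exact hdu _ ha
    have h0 : algebraMap R' B (d * d') * (b * (b - algebraMap R' B d)) = 0 := by
      rw [map_mul, mul_assoc, hz, mul_zero]
    rcases nilpotent_or_of_zeroAcyclic (R := R') (B := B) hacy ha h0 (d := d) (by ring) (dvd_mul_right d d') with h | h
    · left
      have h1 := h.map u
      rw [map_mul u, IsUnit.isNilpotent_unit_mul_of_commute_iff hdu' (Commute.all _ _), ← hbd,
        IsUnit.isNilpotent_mul_unit_of_commute_iff (show IsUnit (u (algebraMap R' B d)) from hdu d hd) (Commute.all _ _)] at h1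
      exact he.eq_zero_of_isNilpotent h1
    · right
      have h1 := h.map u
      rw [map_mul u, IsUnit.isNilpotent_unit_mul_of_commute_iff hdu' (Commute.all _ _), map_sub, ← hbd,
        show e * u (algebraMap R' B d) - u (algebraMap R' B d) = (e - 1) * u (algebraMap R' B d) by ring,
        IsUnit.isNilpotent_mul_unit_of_commute_iff (show IsUnit (u (algebraMap R' B d)) from hdu d hd) (Commute.all _ _)] at h1
      have h2 : IsNilpotent (1 - e) := by rw [← neg_sub e 1]; exact h1.neg
      exact (sub_eq_zero.1 (he.one_sub.eq_zero_of_isNilpotent h2)).symm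
  haveI : Nontrivial C := by
    refine ⟨⟨1, 0, fun h10 => ?_⟩⟩
    obtain ⟨d, hd, hz⟩ := hker 1 (by rw [map_one]; exact h10)
    rw [mul_one] at hz
    let D₁ : (Spec (CommRingCat.of R')).Opens := PrimeSpectrum.basicOpen d
    let V₁ : (Spec (CommRingCat.of R')).Etale := Scheme.Etale.mk D₁.ι
    haveI : IsEmpty ↥(pullback V₁.hom (Spec.map (CommRingCat.ofHom (algebraMap R' B)))) := ⟨fun z => by
      have hc := congrArg (fun m => m z)
        (pullback.condition (f := V₁.hom) (g := Spec.map (CommRingCat.ofHom (algebraMap R' B))))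
      have hm := ((pullback.fst V₁.hom (Spec.map (CommRingCat.ofHom (algebraMap R' B)))) z).2
      refine hm ?_
      show d ∈ (V₁.hom ((pullback.fst V₁.hom _) z)).asIdeal
      rw [← Scheme.Hom.comp_apply, hc, Scheme.Hom.comp_apply]
      exact (show algebraMap R' B d ∈ ((pullback.snd V₁.hom (Spec.map (CommRingCat.ofHom (algebraMap R' B)))) z).asIdeal by
        rw [hz]; exact zero_mem _)⟩
    haveI : Nonempty V₁.left := ⟨⟨(⟨⊥, Ideal.isPrime_bot⟩ : PrimeSpectrum R'), fun h' => hd h'⟩⟩
    exact false_of_unit_of_isEmpty (EtAcyc.prj _ V₁) fun F => hacy V₁ F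
  haveI : ConnectedSpace ↥(Spec (CommRingCat.of C)) := connectedSpace_of_idempotents' C hidem
  let eL := pullbackSpecIso RS RX L
  haveI : ConnectedSpace ↥(pullback (Spec.map (CommRingCat.ofHom (algebraMap RS RX)))
      (Spec.map (CommRingCat.ofHom (algebraMap RS L)))) :=
    GeomIrred.connectedSpace_of_surjective eL.inv eL.inv.surjective inferInstance
  have hfac : Spec.map ω =
      Spec.map (CommRingCat.ofHom j.toRingHom) ≫ Spec.map (CommRingCat.ofHom (algebraMap RS L)) := by
    rw [← Spec.map_comp]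
    congr 1
    refine CommRingCat.hom_ext (RingHom.ext fun s => ?_)
    show ω.hom s = j (algebraMap A L (Ideal.Quotient.mk p s))
    rw [IsScalarTower.algebraMap_apply A K L, j.commutes]
    exact ((IsFractionRing.lift_algebraMap hω' (Ideal.Quotient.mk p s)).trans (RingHom.kerLift_mk _ _)).symm
  let sp := pullback.snd (Spec.map (CommRingCat.ofHom (algebraMap RS RX))) (Spec.map (CommRingCat.ofHom (algebraMap RS L)))
  haveI hgc := GeomIrred.geometricallyConnected_of_connectedSpace (k := L) sp
  rw [hfac]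
  let a := Spec.map (CommRingCat.ofHom j.toRingHom)
  haveI : ConnectedSpace ↥(pullback sp a) :=
    hgc.geometrically_connectedSpace a (pullback.fst sp a) (pullback.snd sp a) (IsPullback.of_hasPullback sp a)
  let e := pullbackLeftPullbackSndIso (Spec.map (CommRingCat.ofHom (algebraMap RS RX)))
    (Spec.map (CommRingCat.ofHom (algebraMap RS L))) a
  exact GeomIrred.connectedSpace_of_surjective e.hom e.hom.surjective inferInstance

end Groth.Agent.ZeroAcycLib
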