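import Groth.Agent.ZeroAcycLib.AcycConn
import Groth.Agent.StrictLocLib.FlatBC
import Mathlib.AlgebraicGeometry.Morphisms.UniversallyOpen

/-!
# Universally locally 0-acyclic morphisms are universally generalizing
-/

set_option autoImplicit false
set_option linter.unusedSectionVars false
set_option linter.style.haveILetI false
set_option backward.isDefEq.respectTransparency false
set_option backward.isDefEq.respectTransparency.types false
set_option maxHeartbeats 1000000

universe u

open CategoryTheory CategoryTheory.Limits AlgebraicGeometry IsLocalRing TensorProduct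

noncomputable section

namespace Groth.Agent.ZeroAcycLib

/-- A surjective quasi-compact generalizing morphism is a quotient map. -/
theorem isQuotientMap_of_generalizing {X Y : Scheme.{u}} (f : X ⟶ Y) [QuasiCompact f] [Surjective f]
    (hg : GeneralizingMap f) : Topology.IsQuotientMap f := by
  rw [Topology.isQuotientMap_iff]
  refine ⟨.of_isOpen_preimage_iff_isOpen fun s ↦
    ⟨fun hs ↦ ?_, fun hs ↦ hs.preimage f.continuous⟩, f.surjective⟩
  wlog hY : ∃ R, Y = Spec R
  · let 𝒰 := Y.affineCover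
    rw [𝒰.isOpenCover_opensRange.isOpen_iff_inter]
    intro i
    rw [Scheme.Hom.coe_opensRange, ← Set.image_preimage_eq_inter_range]
    apply (𝒰.f i).isOpenEmbedding.isOpenMap
    refine this (pullback.fst (𝒰.f i) f) ?_ _ ?_ ⟨_, rfl⟩
    · exact IsZariskiLocalAtTarget.of_isPullback (P := topologically @GeneralizingMap)
        (iY := 𝒰.f i) (IsPullback.of_hasPullback (𝒰.f i) f).flip hg
    rw [← Set.preimage_comp, ← TopCat.coe_comp, ← Scheme.Hom.comp_base, pullback.condition,
      Scheme.Hom.comp_base, TopCat.coe_comp, Set.preimage_comp]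
    exact hs.preimage (Scheme.Hom.continuous _)
  obtain ⟨R, rfl⟩ := hY
  wlog hX : ∃ S, X = Spec S
  · have _ : CompactSpace X := QuasiCompact.compactSpace_of_compactSpace f
    let 𝒰 := X.affineCover.finiteSubcover
    let p : ∐ (fun i : 𝒰.I₀ ↦ 𝒰.X i) ⟶ X := Sigma.desc (fun i ↦ 𝒰.f i)
    haveI hflat : Flat ((∐ (fun i : 𝒰.I₀ ↦ 𝒰.X i)).isoSpec.inv ≫ p) := inferInstance
    refine this R ((∐ (fun i : 𝒰.I₀ ↦ 𝒰.X i)).isoSpec.inv ≫ p ≫ f) ?_ _ ?_ ⟨_, rfl⟩
    · rw [← Category.assoc, Scheme.Hom.comp_base, TopCat.coe_comp]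
      exact (Flat.generalizingMap _).comp hg
    rw [← Category.assoc, Scheme.Hom.comp_base, TopCat.coe_comp, Set.preimage_comp]
    exact hs.preimage (_ ≫ p).continuous
  obtain ⟨S, rfl⟩ := hX
  obtain ⟨φ, rfl⟩ := Spec.map_surjective f
  exact ((PrimeSpectrum.isQuotientMap_of_generalizingMap (Spec.map φ).surjective hg).isOpen_preimage).mp hs

theorem isULocZeroAcyclic_of_isPullback {X S X₁ S₁ : Scheme.{u}} {g : X ⟶ S} (hg : EtAcyc.IsULocZeroAcyclic g)
    {g₁ : X₁ ⟶ S₁} {b' : X₁ ⟶ X} {b : S₁ ⟶ S} (hc : IsPullback b' g₁ g b) : EtAcyc.IsULocZeroAcyclic g₁ :=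
  fun _ _ g₂ c' c hc' => hg g₂ (c' ≫ b') (c ≫ b) (hc'.paste_horiz hc)

/-- The morphisms of strict localizations are surjective. -/
theorem surjective_strictLoc {X S : Scheme.{u}} (g : X ⟶ S) (hg : EtAcyc.IsULocZeroAcyclic g) (x : X)
    (RS : Type u) [CommRing RS]
    [IsLocalRing RS] [Algebra (S.presheaf.stalk (g.base x)) RS]
    [IsLocalHom (algebraMap (S.presheaf.stalk (g.base x)) RS)]
    [Hensel.IsStrictHenselization (S.presheaf.stalk (g.base x)) RS]
    (RX : Type u) [CommRing RX] [IsLocalRing RX] [Algebra (X.presheaf.stalk x) RX]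
    [IsLocalHom (algebraMap (X.presheaf.stalk x) RX)] [Hensel.IsStrictHenselization (X.presheaf.stalk x) RX]
    (ψ : RS →+* RX) [IsLocalHom ψ]
    (hψ : ψ.comp (algebraMap (S.presheaf.stalk (g.base x)) RS) =
      (algebraMap (X.presheaf.stalk x) RX).comp (g.stalkMap x).hom) :
    Surjective (Spec.map (CommRingCat.ofHom ψ)) := by
  refine ⟨fun P => ?_⟩
  let η : Spec (CommRingCat.of (AlgebraicClosure (P : PrimeSpectrum RS).asIdeal.ResidueField)) ⟶
      Spec (CommRingCat.of RS) :=
    Spec.map (CommRingCat.ofHom (algebraMap RS (AlgebraicClosure (P : PrimeSpectrum RS).asIdeal.ResidueField)))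
  haveI := connectedSpace_fibre_of_acyclic g hg x RS RX ψ hψ _ η
  obtain ⟨z⟩ := (inferInstance : Nonempty ↥(pullback (Spec.map (CommRingCat.ofHom ψ)) η))
  refine ⟨pullback.fst (Spec.map (CommRingCat.ofHom ψ)) η z, ?_⟩
  rw [← Scheme.Hom.comp_apply, pullback.condition, Scheme.Hom.comp_apply]
  refine PrimeSpectrum.ext ?_
  let K := (P : PrimeSpectrum RS).asIdeal.ResidueField
  show Ideal.comap (algebraMap RS (AlgebraicClosure K))
    (pullback.snd (Spec.map (CommRingCat.ofHom ψ)) η z : PrimeSpectrum (AlgebraicClosure K)).asIdeal = P.asIdeal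
  rw [Ideal.eq_bot_of_prime (pullback.snd (Spec.map (CommRingCat.ofHom ψ)) η z : PrimeSpectrum (AlgebraicClosure K)).asIdeal,
    IsScalarTower.algebraMap_eq RS K (AlgebraicClosure K), ← Ideal.comap_comap,
    Ideal.comap_bot_of_injective (algebraMap K (AlgebraicClosure K)) (algebraMap K (AlgebraicClosure K)).injective,
    ← RingHom.ker_eq_comap_bot]
  exact Ideal.ker_algebraMap_residueField _

/-- Universally locally 0-acyclic morphisms are generalizing. -/
theorem generalizingMap_of_acyclic {X S : Scheme.{u}} (g : X ⟶ S) (hg : EtAcyc.IsULocZeroAcyclic g) :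
    GeneralizingMap g := by
  intro x y hy
  obtain ⟨RS, _, _, _, _, hRS⟩ := Henselization.exists_strictHenselization (S.presheaf.stalk (g x))
  obtain ⟨RX, _, _, _, _, hRX⟩ := Henselization.exists_strictHenselization (X.presheaf.stalk x)
  haveI := hRS
  haveI := hRX
  haveI := Hensel.IsStrictHenselization.henselian (R := X.presheaf.stalk x) (S := RX)
  have hsepX := Hensel.IsStrictHenselization.isSepClosure (R := X.presheaf.stalk x) (S := RX)
  have hsepS := Hensel.IsStrictHenselization.isSepClosure (R := S.presheaf.stalk (g x)) (S := RS)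
  haveI : IsSepClosed (ResidueField RX) := hsepX.sep_closed
  let φ : S.presheaf.stalk (g x) →+* RX := (algebraMap (X.presheaf.stalk x) RX).comp (g.stalkMap x).hom
  haveI : IsLocalHom φ := RingHom.isLocalHom_comp _ _
  letI : Algebra (ResidueField (S.presheaf.stalk (g x))) (ResidueField RX) := (ResidueField.map φ).toAlgebra
  haveI : Algebra.IsSeparable (ResidueField (S.presheaf.stalk (g x))) (ResidueField RS) := hsepS.separable
  let τ : ResidueField RS →ₐ[ResidueField (S.presheaf.stalk (g x))] ResidueField RX := IsSepClosed.lift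
  obtain ⟨ψ, ⟨hψφ, hψr⟩, -⟩ := Hensel.IsStrictHenselization.universal (R := S.presheaf.stalk (g x)) (S := RS)
    RX φ τ.toRingHom (RingHom.ext fun z => τ.commutes z)
  haveI : IsLocalHom ψ := ⟨fun r hr => by
    by_contra hn
    have h0 : residue RX (ψ r) = 0 := by
      rw [hψr, (residue_eq_zero_iff r).2 hn, map_zero]
    exact (residue_eq_zero_iff (ψ r)).1 h0 hr⟩
  haveI := surjective_strictLoc g hg x RS RX ψ hψφ
  haveI := S1467.weaklyEtale_sh (S.presheaf.stalk (g x)) RS
  haveI : Module.FaithfullyFlat (S.presheaf.stalk (g x)) RS := Module.FaithfullyFlat.of_flat_of_isLocalHom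
  obtain ⟨P, hP⟩ : y ∈ Set.range (S.fromSpecStalk (g x)) := by rw [Scheme.range_fromSpecStalk]; exact hy
  obtain ⟨Q, hQ⟩ := PrimeSpectrum.comap_surjective_of_faithfullyFlat (A := S.presheaf.stalk (g x)) (B := RS) P
  obtain ⟨R, hR⟩ := (Spec.map (CommRingCat.ofHom ψ)).surjective Q
  refine ⟨(Spec.map (CommRingCat.ofHom (algebraMap (X.presheaf.stalk x) RX)) ≫ X.fromSpecStalk x) R, ?_, ?_⟩
  · have := Scheme.range_fromSpecStalk (X := X) (x := x)
    show _ ⤳ x
    exact this.subset ⟨_, (Scheme.Hom.comp_apply _ _ _).symm⟩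
  · rw [← Scheme.Hom.comp_apply, Category.assoc, ← Scheme.SpecMap_stalkMap_fromSpecStalk, ← Category.assoc,
      ← Spec.map_comp, ← hP, ← hQ, ← hR, Scheme.Hom.comp_apply]
    refine congrArg (S.fromSpecStalk (g x)) ?_
    show PrimeSpectrum.comap φ R = PrimeSpectrum.comap (algebraMap (S.presheaf.stalk (g x)) RS) (PrimeSpectrum.comap ψ R)
    rw [← PrimeSpectrum.comap_comp_apply, hψφ]

/-- The morphisms of strict localizations are universally generalizing. -/
theorem generalizingMap_strictLoc {X S : Scheme.{u}} (g : X ⟶ S) (hg : EtAcyc.IsULocZeroAcyclic g) (x : X)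
    (RS : Type u) [CommRing RS]
    [IsLocalRing RS] [Algebra (S.presheaf.stalk (g.base x)) RS]
    [IsLocalHom (algebraMap (S.presheaf.stalk (g.base x)) RS)]
    [Hensel.IsStrictHenselization (S.presheaf.stalk (g.base x)) RS]
    (RX : Type u) [CommRing RX] [IsLocalRing RX] [Algebra (X.presheaf.stalk x) RX]
    [IsLocalHom (algebraMap (X.presheaf.stalk x) RX)] [Hensel.IsStrictHenselization (X.presheaf.stalk x) RX]
    (ψ : RS →+* RX) [IsLocalHom ψ]
    (hψ : ψ.comp (algebraMap (S.presheaf.stalk (g.base x)) RS) =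
      (algebraMap (X.presheaf.stalk x) RX).comp (g.stalkMap x).hom)
    {T T' : Scheme.{u}} {t : T ⟶ Spec (CommRingCat.of RS)} {π : T' ⟶ T} {q : T' ⟶ Spec (CommRingCat.of RX)}
    (sq : IsPullback π q t (Spec.map (CommRingCat.ofHom ψ))) : GeneralizingMap π := by
  obtain ⟨U₀, hU₀, hxU₀, -⟩ := exists_isAffineOpen_mem_and_subset (X := S) (U := ⊤) (x := g.base x) trivial
  obtain ⟨W, hW, hxW, hWU⟩ := exists_isAffineOpen_mem_and_subset (X := X) (U := g ⁻¹ᵁ U₀) (x := x) hxU₀
  let V := Γ(S, U₀)
  let P := Γ(X, W)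
  letI : Algebra V P := (g.appLE U₀ W hWU).hom.toAlgebra
  letI : Algebra V (S.presheaf.stalk (g.base x)) := (S.presheaf.germ U₀ (g.base x) hxU₀).hom.toAlgebra
  haveI : IsLocalization.AtPrime (S.presheaf.stalk (g.base x)) (hU₀.primeIdealOf ⟨g.base x, hxU₀⟩).asIdeal :=
    hU₀.isLocalization_stalk ⟨g.base x, hxU₀⟩
  letI : Algebra P (X.presheaf.stalk x) := (X.presheaf.germ W x hxW).hom.toAlgebra
  haveI : IsLocalization.AtPrime (X.presheaf.stalk x) (hW.primeIdealOf ⟨x, hxW⟩).asIdeal :=
    hW.isLocalization_stalk ⟨x, hxW⟩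
  haveI := WLocalLib.weaklyEtale_of_isLocalization (B := V) (B' := S.presheaf.stalk (g.base x))
    (hU₀.primeIdealOf ⟨g.base x, hxU₀⟩).asIdeal.primeCompl
  haveI := WLocalLib.weaklyEtale_of_isLocalization (B := P) (B' := X.presheaf.stalk x)
    (hW.primeIdealOf ⟨x, hxW⟩).asIdeal.primeCompl
  haveI := S1467.weaklyEtale_sh (S.presheaf.stalk (g.base x)) RS
  haveI := S1467.weaklyEtale_sh (X.presheaf.stalk x) RX
  letI : Algebra V RS := ((algebraMap (S.presheaf.stalk (g.base x)) RS).comp
    (algebraMap V (S.presheaf.stalk (g.base x)))).toAlgebra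
  haveI : IsScalarTower V (S.presheaf.stalk (g.base x)) RS := IsScalarTower.of_algebraMap_eq fun _ => rfl
  letI : Algebra P RX := ((algebraMap (X.presheaf.stalk x) RX).comp (algebraMap P (X.presheaf.stalk x))).toAlgebra
  haveI : IsScalarTower P (X.presheaf.stalk x) RX := IsScalarTower.of_algebraMap_eq fun _ => rfl
  haveI : Algebra.WeaklyEtale V RS := Algebra.WeaklyEtale.trans V (S.presheaf.stalk (g.base x)) RS
  haveI : Algebra.WeaklyEtale P RX := Algebra.WeaklyEtale.trans P (X.presheaf.stalk x) RX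
  letI : Algebra V RX := ((algebraMap P RX).comp (algebraMap V P)).toAlgebra
  haveI : IsScalarTower V P RX := IsScalarTower.of_algebraMap_eq fun _ => rfl
  have hga : g.appLE U₀ W hWU ≫ X.presheaf.germ W x hxW = S.presheaf.germ U₀ (g.base x) hxU₀ ≫ g.stalkMap x := by
    rw [Scheme.Hom.germ_stalkMap, Scheme.Hom.appLE, Category.assoc, TopCat.Presheaf.germ_res]
  let P' := P ⊗[V] RS
  let kR : P' →ₐ[P] RX := Algebra.TensorProduct.lift (Algebra.ofId P RX)
    { toRingHom := ψ
      commutes' := fun v => by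
        show ψ (algebraMap (S.presheaf.stalk (g.base x)) RS ((S.presheaf.germ U₀ (g.base x) hxU₀).hom v)) =
          algebraMap (X.presheaf.stalk x) RX ((g.appLE U₀ W hWU ≫ X.presheaf.germ W x hxW).hom v)
        rw [hga]
        exact RingHom.congr_fun hψ _ }
    fun _ _ => Commute.all _ _
  letI : Algebra P' RX := kR.toRingHom.toAlgebra
  haveI : IsScalarTower P P' RX := IsScalarTower.of_algebraMap_eq fun p => (kR.commutes p).symm
  haveI : Module.Flat P' RX := WLocalLib.flat_of_weaklyEtale (A := P) RX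
  haveI : Flat (Spec.map (CommRingCat.ofHom kR.toRingHom)) := by
    rw [HasRingHomProperty.Spec_iff (P := @Flat)]
    exact RingHom.flat_algebraMap_iff.2 (inferInstance : Module.Flat P' RX)
  haveI : IsOpenImmersion hW.fromSpec := hW.isOpenImmersion_fromSpec
  haveI : IsOpenImmersion hU₀.fromSpec := hU₀.isOpenImmersion_fromSpec
  let b : Spec (CommRingCat.of RS) ⟶ S := Spec.map (CommRingCat.ofHom (algebraMap V RS)) ≫ hU₀.fromSpec
  have h0 := isPullback_SpecMap_of_isPushout _ _ _ _ (CommRingCat.isPushout_tensorProduct V P RS)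
  have hsq : IsPullback (Spec.map (CommRingCat.ofHom (Algebra.TensorProduct.includeLeftRingHom : P →+* P')))
      (Spec.map (CommRingCat.ofHom (Algebra.TensorProduct.includeRight (R := V) (A := P) (B := RS)).toRingHom))
      (hW.fromSpec ≫ g) b := by
    rw [← IsAffineOpen.SpecMap_appLE_fromSpec g hU₀ hW hWU]
    refine IsPullback.mk' (by rw [← Category.assoc, ← Category.assoc]; exact congrArg (· ≫ hU₀.fromSpec) h0.w)
      (fun T φ φ' e₁ e₂ => h0.hom_ext e₁ e₂) fun T c c' e => ?_
    rw [← Category.assoc, ← Category.assoc, cancel_mono] at e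
    exact ⟨h0.lift c c' e, h0.lift_fst _ _ _, h0.lift_snd _ _ _⟩
  let j : Spec (CommRingCat.of P') ⟶ pullback g b :=
    hsq.isoPullback.hom ≫ (pullbackRightPullbackFstIso g b hW.fromSpec).inv ≫ pullback.snd _ _
  have hj : Spec.map (CommRingCat.ofHom kR.toRingHom) ≫ j ≫ pullback.snd g b = Spec.map (CommRingCat.ofHom ψ) := by
    simp only [j, Category.assoc]
    rw [pullbackRightPullbackFstIso_inv_snd_snd, IsPullback.isoPullback_hom_snd, ← Spec.map_comp]
    refine congrArg _ (CommRingCat.hom_ext (RingHom.ext fun r => ?_))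
    show kR ((1 : P) ⊗ₜ[V] r) = ψ r
    refine (Algebra.TensorProduct.lift_tmul _ _ _ _ _).trans ?_
    rw [map_one, one_mul]
    rfl
  let Z := pullback t (pullback.snd g b)
  let k : Spec (CommRingCat.of RX) ⟶ pullback g b := Spec.map (CommRingCat.ofHom kR.toRingHom) ≫ j
  haveI : Flat k := inferInstance
  let kk : T' ⟶ Z := pullback.lift π (q ≫ k) (by rw [sq.w, Category.assoc]; exact congrArg (q ≫ ·) (hj.symm.trans (Category.assoc _ _ _).symm))
  have sqk : IsPullback kk q (pullback.snd t (pullback.snd g b)) k :=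
    IsPullback.of_bot (v₂₁ := pullback.fst t (pullback.snd g b)) (v₂₂ := pullback.snd g b) ?_
      (pullback.lift_snd _ _ _).symm (IsPullback.of_hasPullback t (pullback.snd g b)).flip |>.flip
  swap
  · rw [show kk ≫ pullback.fst t (pullback.snd g b) = π from pullback.lift_fst _ _ _,
      show k ≫ pullback.snd g b = Spec.map (CommRingCat.ofHom ψ) from (Category.assoc _ _ _).trans hj]
    exact sq.flip
  haveI : Flat kk := MorphismProperty.of_isPullback sqk.flip ‹Flat k›
  have h1 : GeneralizingMap (pullback.fst t (pullback.snd g b)) :=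
    generalizingMap_of_acyclic _ (isULocZeroAcyclic_of_isPullback
      (isULocZeroAcyclic_of_isPullback hg (IsPullback.of_hasPullback g b))
      (IsPullback.of_hasPullback t (pullback.snd g b)).flip)
  have h2 := (Flat.generalizingMap kk).comp h1
  rw [← TopCat.coe_comp, ← Scheme.Hom.comp_base,
    show kk ≫ pullback.fst t (pullback.snd g b) = π from pullback.lift_fst _ _ _] at h2
  exact h2

end Groth.Agent.ZeroAcycLib
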