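import Groth.Agent.StrictLocLib.SetsBC
import Groth.Agent.GeomConnPull.Field

/-!
# Units of sheaves of sets from units of abelian sheaves
-/

set_option autoImplicit false
set_option linter.unusedSectionVars false
set_option linter.style.haveILetI false
set_option backward.isDefEq.respectTransparency false
set_option backward.isDefEq.respectTransparency.types false
set_option maxHeartbeats 1000000

universe u

open CategoryTheory CategoryTheory.Limits AlgebraicGeometry Opposite
open Groth.Agent.EtPtsLib Groth.Agent.StrictLocLib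

noncomputable section

namespace Groth.Agent.ZeroAcycLib

variable {X' X : Scheme.{u}} (π : X' ⟶ X) (F : EtDesc.Sh X)
  (hab : IsIso ((EtCoh.pullPushAdj π).unit.app (freeAbOf F)))
  (hs : ∀ U : X.Etale, Function.Surjective (bcFst π U))

include hab in
theorem bijective_unit_free (U : X.Etale) :
    Function.Bijective (((EtCoh.pullPushAdj π).unit.app (freeAbOf F)).hom.app (op U)) := by
  haveI := hab
  haveI : IsIso ((EtCoh.pullPushAdj π).unit.app (freeAbOf F)).hom :=
    inferInstanceAs (IsIso ((sheafToPresheaf _ _).map ((EtCoh.pullPushAdj π).unit.app (freeAbOf F))))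
  exact ConcreteCategory.bijective_of_isIso _

include hab in
theorem injective_unit_sh (U : X.Etale) :
    Function.Injective (((EtDesc.adjSh π).unit.app F).hom.app (op U)) := fun s t h => by
  refine freeIncl_injective F U ((bijective_unit_free π F hab U).1 ?_)
  rw [← pullIncl_unit π F (freeIncl F) U s, ← pullIncl_unit π F (freeIncl F) U t, h]

include hab hs in
theorem surjective_unit_sh (U : X.Etale) :
    Function.Surjective (((EtDesc.adjSh π).unit.app F).hom.app (op U)) := by
  intro t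
  obtain ⟨g, hg⟩ := (bijective_unit_free π F hab U).2 ((pullInclP π F (freeIncl F)).app (op ((EtCoh.bc π).obj U)) t)
  suffices h : ∀ y, y ∈ imageLocus (freeIncl F) g by
    obtain ⟨s, rfl⟩ := exists_preimage_of_imageLocus (freeIncl F) (freeIncl_injective F) g h
    refine ⟨s, pullIncl_injective π F (freeIncl F) (freeIncl_injective F) ((EtCoh.bc π).obj U) ?_⟩
    exact (pullIncl_unit π F (freeIncl F) U s).trans hg
  intro y
  obtain ⟨y', rfl⟩ := hs U y
  obtain ⟨Ω, _, _, ζ, l, rfl⟩ := HensH0.exists_geom (X := X') ((EtCoh.bc π).obj U) y'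
  let l' : (Scheme.pointSmallEtale (ζ ≫ π)).fiber.obj U := Over.homMk (liftHom ζ l ≫ bcFst π U) (by
    show (liftHom ζ l ≫ bcFst π U) ≫ U.hom = ζ ≫ π
    rw [Category.assoc, bcFst, pullback.condition, ← Category.assoc]
    exact congrArg (· ≫ π) (liftHom_comp ζ l))
  have hl : liftBc π ζ U l' = l := fiber_bc_ext π ζ (liftHom_liftBc_fst π ζ U l')
  obtain ⟨a, ha⟩ := (bijective_unitStalk π ζ F).2
    ((Scheme.pointSmallEtale ζ).toPresheafFiber _ l ((EtDesc.pullSh π).obj F).obj t)
  have h1 : fibU (ζ ≫ π) (freeIncl F) a =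
      (Scheme.pointSmallEtale (ζ ≫ π)).toPresheafFiber U l' (freeAbOf F).obj g := by
    refine (bijective_unitStalk π ζ (freeAbOf F)).1 ?_
    rw [← fibU_pullIncl_unitStalk π F (freeIncl F) ζ a]
    refine (congrArg (fibU ζ (pullInclP π F (freeIncl F))) ha).trans ?_
    refine (fibU_germ ζ (pullInclP π F (freeIncl F)) _ l t).trans ?_
    refine Eq.trans ?_ (unitStalk_germ π ζ (freeAbOf F) U l' g).symm
    rw [hl]
    exact congrArg ((Scheme.pointSmallEtale ζ).toPresheafFiber _ l ((EtCoh.pull π).obj (freeAbOf F)).obj) hg.symm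
  obtain ⟨W, m, x, rfl⟩ := (Scheme.pointSmallEtale (ζ ≫ π)).toPresheafFiber_jointly_surjective (P := F.obj) a
  rw [fibU_germ] at h1
  haveI := (Scheme.pointSmallEtale (ζ ≫ π)).isCofiltered
  obtain ⟨⟨V₀, n₀⟩, a₁, a₂, -⟩ := IsCofilteredOrEmpty.cone_objs
    (Functor.elementsMk (Scheme.pointSmallEtale (ζ ≫ π)).fiber W m)
    (Functor.elementsMk (Scheme.pointSmallEtale (ζ ≫ π)).fiber U l')
  let f₀ : V₀ ⟶ W := a₁.1
  let i₀ : V₀ ⟶ U := a₂.1
  have hf₀ : (Scheme.pointSmallEtale (ζ ≫ π)).fiber.map f₀ n₀ = m := a₁.2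
  have hi₀ : (Scheme.pointSmallEtale (ζ ≫ π)).fiber.map i₀ n₀ = l' := a₂.2
  rw [← hf₀, ← hi₀] at h1
  have h2 := ((Scheme.pointSmallEtale (ζ ≫ π)).toPresheafFiber_w_apply f₀ n₀ (freeAbOf F).obj _).trans
    (h1.trans ((Scheme.pointSmallEtale (ζ ≫ π)).toPresheafFiber_w_apply i₀ n₀ (freeAbOf F).obj g).symm)
  obtain ⟨V, k, n, hn, e⟩ := ((Scheme.pointSmallEtale (ζ ≫ π)).toPresheafFiber_eq_iff' V₀ n₀ _ _).1 h2
  have hi : (Scheme.pointSmallEtale (ζ ≫ π)).fiber.map (k ≫ i₀) n = l' := by
    rw [Functor.map_comp_apply, hn, hi₀]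
  refine Set.mem_iUnion.2 ⟨V, Set.mem_iUnion.2 ⟨k ≫ i₀, Set.mem_iUnion.2 ⟨⟨F.obj.map (k ≫ f₀).op x, ?_⟩,
    liftHom _ n default, ?_⟩⟩⟩
  · rw [kap_map, op_comp, op_comp, Functor.map_comp_apply, Functor.map_comp_apply]
    exact e
  · refine Eq.trans ?_ (EtLimLib.hom_congr_apply
      ((liftHom_map (ζ ≫ π) (k ≫ i₀) n).symm.trans (congrArg (liftHom (ζ ≫ π)) hi)) default)
    exact (Scheme.Hom.comp_apply _ _ _).symm

include hab hs in
/-- The unit of a sheaf of sets is an isomorphism as soon as that of its free abelian sheaf is. -/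
theorem isIso_unit_sh_of_ab : IsIso ((EtDesc.adjSh π).unit.app F) := by
  haveI : ∀ W, IsIso (((EtDesc.adjSh π).unit.app F).hom.app W) := fun W =>
    (ConcreteCategory.isIso_iff_bijective _).2
      ⟨injective_unit_sh π F hab W.unop, surjective_unit_sh π F hab hs W.unop⟩
  haveI : IsIso ((EtDesc.adjSh π).unit.app F).hom := NatIso.isIso_of_isIso_app _
  haveI : IsIso ((sheafToPresheaf _ _).map ((EtDesc.adjSh π).unit.app F)) :=
    ‹IsIso ((EtDesc.adjSh π).unit.app F).hom›
  exact isIso_of_fully_faithful (sheafToPresheaf _ _) ((EtDesc.adjSh π).unit.app F)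

omit π F in
/-- The unit of a sheaf of sets is an isomorphism for flat quasi-compact morphisms with geometrically
connected fibres. -/
theorem isIso_unit_sh_of_flat {X' X : Scheme.{u}} (π : X' ⟶ X) [Flat π] [QuasiCompact π]
    [GeometricallyConnected π] (F : EtDesc.Sh X) : IsIso ((EtDesc.adjSh π).unit.app F) :=
  isIso_unit_sh_of_ab π F (GeomConnPull.isIso_unit_of_flat π (freeAbOf F)) fun U =>
    (GeomConnPull.isQuotientMap_fst π U).surjective

end Groth.Agent.ZeroAcycLib
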