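import Groth.Agent.ZeroAcycLib.Fibres
import Groth.Agent.ZeroAcycLib.SetsUnit
import Groth.Agent.StrictLocLib.FlatBC
import Groth.Prelude.Def_EtAcyc

/-!
# Universal local 0-acyclicity
-/

set_option autoImplicit false
set_option linter.unusedSectionVars false
set_option linter.style.haveILetI false
set_option backward.isDefEq.respectTransparency false
set_option backward.isDefEq.respectTransparency.types false
set_option maxHeartbeats 1000000

universe u

open CategoryTheory CategoryTheory.Limits AlgebraicGeometry Opposite

noncomputable section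

namespace Groth.Agent.ZeroAcycLib

/-- A flat map with geometrically connected fibres of affine schemes is 0-acyclic. -/
theorem isZeroAcyclic_of_connected {X Y : Scheme.{u}} (g : X ⟶ Y) [Flat g] [QuasiCompact g]
    [GeometricallyConnected g] : EtAcyc.IsZeroAcyclic g := fun V F => by
  haveI : Flat (EtAcyc.prj g V) := MorphismProperty.pullback_fst _ _ ‹Flat g›
  haveI : QuasiCompact (EtAcyc.prj g V) := MorphismProperty.pullback_fst _ _ ‹QuasiCompact g›
  haveI : GeometricallyConnected (EtAcyc.prj g V) :=
    MorphismProperty.pullback_fst (P := @GeometricallyConnected) _ _ ‹GeometricallyConnected g›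
  exact isIso_unit_sh_of_flat (EtAcyc.prj g V) F

theorem isLocZeroAcyclic_of_genClosedAt {X Y : Scheme.{u}} (g : X ⟶ Y) [Flat g] (h : ∀ x, GenClosedAt g x) :
    EtAcyc.IsLocZeroAcyclic g := fun x RY RX _ _ _ _ _ _ _ _ _ _ _ _ hψ => by
  haveI : Flat (Spec.map (CommRingCat.ofHom (algebraMap RY RX))) := by
    rw [HasRingHomProperty.Spec_iff (P := @Flat)]
    refine StrictLocLib.flat_of_strictHenselization (A := Y.presheaf.stalk (g.base x)) (R := RY) (algebraMap RY RX) ?_
    rw [hψ]
    exact RingHom.Flat.comp (Flat.stalkMap g x)
      (RingHom.flat_algebraMap_iff.2 (ProEtLib2.flat_of_isIndEtale (S12237.result (X.presheaf.stalk x) RX)))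
  haveI : GeometricallyConnected (Spec.map (CommRingCat.ofHom (algebraMap RY RX))) :=
    StrictLocLib.geometricallyConnected_of_algClosed _ fun Ω _ _ η =>
      connectedSpace_fibre g x (h x) RY RX (algebraMap RY RX) hψ Ω η
  exact isZeroAcyclic_of_connected _

/-- Flat morphisms with generically integrally closed charts are universally locally 0-acyclic. -/
theorem isULocZeroAcyclic_of_charts {X Y : Scheme.{u}} (g : X ⟶ Y) [Flat g] (h : GenClosedCharts g) :
    EtAcyc.IsULocZeroAcyclic g := fun _ _ g₁ _ _ hc => by
  haveI : Flat g₁ := MorphismProperty.of_isPullback hc ‹Flat g›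
  exact isLocZeroAcyclic_of_genClosedAt g₁ (genClosedAt_of_isPullback h hc)

end Groth.Agent.ZeroAcycLib
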