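import Groth.Agent.ZeroAcycLib.Complete
import Mathlib.RingTheory.Adjoin.FG
import Mathlib.RingTheory.FiniteType
import Mathlib.FieldTheory.IsAlgClosed.Basic

/-!
# Generic integral closedness of flat algebras with geometrically reduced fibres
-/

set_option autoImplicit false
set_option linter.unusedSectionVars false
set_option linter.style.haveILetI false

universe u

open TensorProduct IsLocalRing Polynomial

noncomputable section

namespace Groth.Agent.ZeroAcycLib

section

variable (V P R' L : Type u) [CommRing V] [CommRing P] [Algebra V P] [CommRing R'] [Algebra V R'] [CommRing L]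
  [Algebra R' L] [Algebra V L] [IsScalarTower V R' L]

/-- The map to the generic fibre. -/
def genMap : R' ⊗[V] P →ₐ[V] L ⊗[V] P :=
  Algebra.TensorProduct.map (IsScalarTower.toAlgHom V R' L) (AlgHom.id V P)

theorem genMap_tmul (r : R') (p : P) : genMap V P R' L (r ⊗ₜ p) = algebraMap R' L r ⊗ₜ p := rfl

end

/-- For every normal local domain `R'` over `V`, the generically integral elements over `R' ⊗ P` come,
up to nilpotents, from `R' ⊗ P`. Only algebraically closed fraction fields are used. -/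
def GenClosed (V P : Type u) [CommRing V] [CommRing P] [Algebra V P] : Prop :=
  ∀ (R' L : Type u) [CommRing R'] [IsDomain R'] [IsLocalRing R'] [IsIntegrallyClosed R'] [Field L]
    [IsAlgClosed L] [Algebra R' L] [IsFractionRing R' L] [Algebra V R'] [Algebra V L] [IsScalarTower V R' L],
    ∀ x : L ⊗[V] P, (genMap V P R' L).toRingHom.IsIntegralElem x → ∃ a, IsNilpotent (x - genMap V P R' L a)

variable {V P : Type u} [CommRing V] [CommRing P] [Algebra V P]

theorem exists_denominator {R' L : Type u} [CommRing R'] [IsDomain R'] [Field L] [Algebra R' L] [IsFractionRing R' L]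
    [Algebra V R'] [Algebra V L] [IsScalarTower V R' L] (x : L ⊗[V] P) :
    ∃ (c : R') (a : R' ⊗[V] P), c ≠ 0 ∧ genMap V P R' L (c ⊗ₜ 1) * x = genMap V P R' L a := by
  induction x using TensorProduct.induction_on with
  | zero => exact ⟨1, 0, one_ne_zero, by rw [mul_zero, map_zero]⟩
  | tmul l p =>
    obtain ⟨⟨r, d⟩, hd⟩ := IsLocalization.surj (nonZeroDivisors R') l
    refine ⟨d, r ⊗ₜ p, nonZeroDivisors.ne_zero d.2, ?_⟩
    rw [genMap_tmul, genMap_tmul, Algebra.TensorProduct.tmul_mul_tmul, one_mul, mul_comm, hd]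
  | add x y hx hy =>
    obtain ⟨c₁, a₁, h₁, e₁⟩ := hx
    obtain ⟨c₂, a₂, h₂, e₂⟩ := hy
    refine ⟨c₁ * c₂, (c₂ ⊗ₜ (1 : P)) * a₁ + (c₁ ⊗ₜ (1 : P)) * a₂, mul_ne_zero h₁ h₂, ?_⟩
    have : ((c₁ * c₂) ⊗ₜ[V] (1 : P)) = (c₁ ⊗ₜ (1 : P)) * (c₂ ⊗ₜ (1 : P)) := by
      rw [Algebra.TensorProduct.tmul_mul_tmul, one_mul]
    rw [this, map_mul, map_add, map_mul, map_mul, ← e₁, ← e₂]
    ring

/-- Finitely many elements of the tensor product live over a finitely generated subalgebra. -/
theorem exists_finset_lift {R' : Type u} [CommRing R'] [Algebra V R'] (y : R' ⊗[V] P) :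
    ∃ s : Finset R', ∀ B : Subalgebra V R', (s : Set R') ⊆ B →
      y ∈ (Algebra.TensorProduct.map B.val (AlgHom.id V P)).range := by
  classical
  induction y using TensorProduct.induction_on with
  | zero => exact ⟨∅, fun B _ => zero_mem _⟩
  | tmul r p => exact ⟨{r}, fun B hB => ⟨(⟨r, hB (by simp)⟩ : B) ⊗ₜ p, rfl⟩⟩
  | add x y hx hy =>
    obtain ⟨s, hs⟩ := hx
    obtain ⟨t, ht⟩ := hy
    refine ⟨s ∪ t, fun B hB => add_mem (hs B fun z hz => hB ?_) (ht B fun z hz => hB ?_)⟩
    · exact Finset.mem_coe.2 (Finset.mem_union_left _ hz)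
    · exact Finset.mem_coe.2 (Finset.mem_union_right _ hz)

theorem dvd_of_relation_over [Module.Flat V P]
    (hred : ∀ (K : Type u) [Field K] [Algebra V K], IsReduced (K ⊗[V] P))
    {R' : Type u} [CommRing R'] [IsDomain R'] [IsIntegrallyClosed R'] [Algebra V R'] (L : Type u) [Field L]
    [Algebra R' L] [IsFractionRing R' L] {R₁ : Type u} [CommRing R₁] [IsDomain R₁] [IsLocalRing R₁]
    [IsNoetherianRing R₁] [Algebra V R₁] (l : R₁ →ₐ[V] R') (hlinj : Function.Injective l) {c : R₁} (hc : c ≠ 0)
    {k : ℕ} {a : R₁ ⊗[V] P} {b : ℕ → R₁ ⊗[V] P}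
    (h : a ^ k + ∑ i ∈ Finset.range k, (c ⊗ₜ (1 : P)) ^ (k - i) * b i * a ^ i = 0) :
    (l c ⊗ₜ (1 : P)) ∣ Algebra.TensorProduct.map l (AlgHom.id V P) a := by
  let lL : R₁ →+* L := (algebraMap R' L).comp l.toRingHom
  have hlL : Function.Injective lL := (IsFractionRing.injective R' L).comp hlinj
  let gK : FractionRing R₁ →+* L := IsFractionRing.lift hlL
  have hgK : ∀ r, gK (algebraMap R₁ (FractionRing R₁) r) = algebraMap R' L (l r) := fun r =>
    IsFractionRing.lift_algebraMap hlL r
  have hnorm : ∀ y : Nrml R₁, ∃ r : R', algebraMap R' L r = gK y.1 := by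
    intro y
    obtain ⟨p, hp, hpy⟩ := y.2
    refine IsIntegrallyClosed.isIntegral_iff.1 ⟨p.map l.toRingHom, hp.map _, ?_⟩
    rw [eval₂_map]
    have := congrArg gK hpy
    rw [hom_eval₂, map_zero] at this
    rw [show (algebraMap R' L).comp l.toRingHom = gK.comp (algebraMap R₁ (FractionRing R₁)) from
      RingHom.ext fun r => (hgK r).symm]
    exact this
  choose g hg using hnorm
  have hgi : Function.Injective (algebraMap R' L) := IsFractionRing.injective R' L
  have hgr : ∀ r : R₁, g (algebraMap R₁ (Nrml R₁) r) = l r := fun r => hgi ((hg _).trans (hgK r))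
  let gA : Nrml R₁ →ₐ[V] R' :=
    { toFun := g
      map_one' := hgi (by rw [hg, map_one]; exact map_one gK)
      map_mul' := fun y z => hgi (by rw [hg, map_mul, hg, hg]; exact map_mul gK _ _)
      map_zero' := hgi (by rw [hg, map_zero]; exact map_zero gK)
      map_add' := fun y z => hgi (by rw [hg, map_add, hg, hg]; exact map_add gK _ _)
      commutes' := fun v => by
        rw [IsScalarTower.algebraMap_apply V R₁ (Nrml R₁), hgr, l.commutes] }
  let E := Algebra.TensorProduct.cancelBaseChange V R₁ (Nrml R₁) (Nrml R₁) P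
  let up : R₁ →ₐ[V] Nrml R₁ := IsScalarTower.toAlgHom V R₁ (Nrml R₁)
  let T : R₁ ⊗[V] P →+* Nrml R₁ ⊗[R₁] (R₁ ⊗[V] P) :=
    E.symm.toRingEquiv.toRingHom.comp (Algebra.TensorProduct.map up (AlgHom.id V P)).toRingHom
  have hTc : T (c ⊗ₜ (1 : P)) = algebraMap (Nrml R₁) (Nrml R₁ ⊗[R₁] (R₁ ⊗[V] P)) (up c) := E.symm.commutes (up c)
  have hdvd : algebraMap (Nrml R₁) (Nrml R₁ ⊗[R₁] (R₁ ⊗[V] P)) (up c) ∣ T a := by
    refine dvd_of_integral_relation_local (fun K _ _ => ?_) ?_ k (fun i => T (b i)) ?_
    · letI : Algebra V K := ((algebraMap R₁ K).comp (algebraMap V R₁)).toAlgebra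
      haveI : IsScalarTower V R₁ K := IsScalarTower.of_algebraMap_eq fun _ => rfl
      haveI := hred K
      exact isReduced_of_injective (Algebra.TensorProduct.cancelBaseChange V R₁ K K P) (AlgEquiv.injective _)
    · intro e
      apply hc
      refine hlinj ?_
      rw [← hgr, map_zero]
      exact (congrArg gA e).trans (map_zero gA)
    · rw [← map_zero T, ← h, map_add, map_pow, map_sum]
      refine congrArg (T a ^ k + ·) (Finset.sum_congr rfl fun i _ => ?_)
      rw [map_mul, map_mul, map_pow, map_pow, hTc]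
  let Θ : Nrml R₁ ⊗[R₁] (R₁ ⊗[V] P) →+* R' ⊗[V] P :=
    (Algebra.TensorProduct.map gA (AlgHom.id V P)).toRingHom.comp E.toRingEquiv.toRingHom
  have hΘ : ∀ y, Θ (T y) = Algebra.TensorProduct.map l (AlgHom.id V P) y := by
    intro y
    show Algebra.TensorProduct.map gA (AlgHom.id V P) (E (E.symm (Algebra.TensorProduct.map up (AlgHom.id V P) y))) = _
    rw [E.apply_symm_apply]
    induction y using TensorProduct.induction_on with
    | zero => simp only [map_zero]
    | tmul b p => exact congrArg (· ⊗ₜ p) (hgr b)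
    | add y z hy hz => simp only [map_add, hy, hz]
  obtain ⟨w, hw⟩ := hdvd
  refine ⟨Θ w, ?_⟩
  have hw' := congrArg Θ hw
  rw [map_mul, ← hTc, hΘ, hΘ] at hw'
  exact hw'

/-- The case of noetherian base. -/
theorem genClosed_of_noetherian [IsNoetherianRing V] [Module.Flat V P]
    (hred : ∀ (K : Type u) [Field K] [Algebra V K], IsReduced (K ⊗[V] P)) : GenClosed V P := by
  classical
  intro R' L _ _ _ _ _ _ _ _ _ _ _ x hx
  obtain ⟨f, hf, hfx⟩ := hx
  let ι := genMap V P R' L
  change eval₂ ι.toRingHom x f = 0 at hfx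
  obtain ⟨c, a, hc, ha⟩ := exists_denominator (R' := R') x
  let k := f.natDegree
  have hι : Function.Injective ι := by
    intro y z e
    exact Module.Flat.rTensor_preserves_injective_linearMap (M := P)
      (IsScalarTower.toAlgHom V R' L).toLinearMap (IsFractionRing.injective R' L) e
  have hrel : a ^ k + ∑ i ∈ Finset.range k, (c ⊗ₜ (1 : P)) ^ (k - i) * f.coeff i * a ^ i = 0 := by
    apply hι
    rw [map_zero, map_add, map_pow, map_sum]
    rw [eval₂_eq_sum_range, Finset.sum_range_succ, hf.coeff_natDegree, map_one, one_mul] at hfx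
    calc ι a ^ k + ∑ i ∈ Finset.range k, ι ((c ⊗ₜ (1 : P)) ^ (k - i) * f.coeff i * a ^ i)
        = ι (c ⊗ₜ (1 : P)) ^ k * (∑ i ∈ Finset.range k, ι.toRingHom (f.coeff i) * x ^ i + x ^ k) := by
          rw [← ha, mul_add, Finset.mul_sum, mul_pow, add_comm]
          refine congrArg (· + _) (Finset.sum_congr rfl fun i hi => ?_)
          rw [map_mul, map_mul, map_pow, map_pow, ← ha, mul_pow]
          have : ι (c ⊗ₜ (1 : P)) ^ k = ι (c ⊗ₜ (1 : P)) ^ (k - i) * ι (c ⊗ₜ (1 : P)) ^ i := by
            rw [← pow_add, Nat.sub_add_cancel (Finset.mem_range.1 hi).le]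
          rw [this]
          show _ = _ * (ι (f.coeff i) * x ^ i)
          ring
      _ = 0 := by rw [hfx, mul_zero]
  obtain ⟨sa, hsa⟩ := exists_finset_lift a
  choose sb hsb using fun i => exists_finset_lift (f.coeff i)
  let B : Subalgebra V R' := Algebra.adjoin V (↑(insert c (sa ∪ (Finset.range k).biUnion sb)) : Set R')
  have hB : ∀ z ∈ insert c (sa ∪ (Finset.range k).biUnion sb), z ∈ B :=
    fun z hz => Algebra.subset_adjoin (Finset.mem_coe.2 hz)
  obtain ⟨a₀, ha₀⟩ := hsa B fun z hz =>
    hB z (Finset.mem_insert_of_mem (Finset.mem_union_left _ hz))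
  have hb₀ : ∀ i, ∃ b, i < k → Algebra.TensorProduct.map B.val (AlgHom.id V P) b = f.coeff i := fun i => by
    by_cases hi : i < k
    · obtain ⟨b, hb⟩ := hsb i B fun z hz => hB z (Finset.mem_insert_of_mem
        (Finset.mem_union_right _ (Finset.mem_biUnion.2 ⟨i, Finset.mem_range.2 hi, hz⟩)))
      exact ⟨b, fun _ => hb⟩
    · exact ⟨0, fun h => absurd h hi⟩
  choose b₀ hb₀ using hb₀
  let c₀ : B := ⟨c, hB c (Finset.mem_insert_self _ _)⟩
  have hrel₀ : a₀ ^ k + ∑ i ∈ Finset.range k, (c₀ ⊗ₜ (1 : P)) ^ (k - i) * b₀ i * a₀ ^ i = 0 := by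
    let j := Algebra.TensorProduct.map B.val (AlgHom.id V P)
    have hj : Function.Injective j := fun y z e =>
      Module.Flat.rTensor_preserves_injective_linearMap (M := P) B.val.toLinearMap Subtype.val_injective e
    have ha₀' : j a₀ = a := ha₀
    apply hj
    rw [map_zero, map_add, map_pow, map_sum, ha₀', ← hrel]
    refine congrArg (a ^ k + ·) (Finset.sum_congr rfl fun i hi => ?_)
    rw [map_mul, map_mul, map_pow, map_pow, ha₀']
    exact congrArg (fun t => t * a ^ i) (congrArg₂ (fun s t => s ^ (k - i) * t)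
      (Algebra.TensorProduct.map_tmul _ _ _ _) (hb₀ i (Finset.mem_range.1 hi)))
  haveI : Algebra.FiniteType V B := (Subalgebra.fg_iff_finiteType B).1 ⟨_, rfl⟩
  haveI : IsNoetherianRing B := Algebra.FiniteType.isNoetherianRing V B
  let q := (maximalIdeal R').comap B.val.toRingHom
  let R₁ := Localization.AtPrime q
  have hu : ∀ y : q.primeCompl, IsUnit (B.val.toRingHom y) := fun y => by
    by_contra h
    exact y.2 ((mem_maximalIdeal _).2 h)
  haveI : IsDomain R₁ := IsLocalization.isDomain_localization q.primeCompl_le_nonZeroDivisors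
  haveI : IsNoetherianRing R₁ := IsLocalization.isNoetherianRing q.primeCompl R₁ inferInstance
  let l : R₁ →ₐ[V] R' :=
    { toRingHom := IsLocalization.lift hu
      commutes' := fun v => by
        rw [IsScalarTower.algebraMap_apply V B R₁]
        exact (IsLocalization.lift_eq hu _).trans (B.val.commutes v) }
  have hl : ∀ y : B, l (algebraMap B R₁ y) = y := fun y => IsLocalization.lift_eq hu y
  have hlinj : Function.Injective l := by
    rw [injective_iff_map_eq_zero]
    intro y hy
    obtain ⟨z, s, rfl⟩ := IsLocalization.exists_mk'_eq q.primeCompl y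
    have : l (algebraMap B R₁ z) = 0 := by
      rw [← IsLocalization.mk'_spec R₁ z s, map_mul, hy, zero_mul]
    rw [hl] at this
    rw [show z = 0 from Subtype.ext this, IsLocalization.mk'_zero]
  let up := Algebra.TensorProduct.map (IsScalarTower.toAlgHom V B R₁) (AlgHom.id V P)
  have hup : ∀ y, Algebra.TensorProduct.map l (AlgHom.id V P) (up y) = Algebra.TensorProduct.map B.val (AlgHom.id V P) y := by
    intro y
    induction y using TensorProduct.induction_on with
    | zero => simp only [map_zero]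
    | tmul b p => exact congrArg (· ⊗ₜ p) (hl b)
    | add y z hy hz => simp only [map_add, hy, hz]
  have hrel₁ : up a₀ ^ k + ∑ i ∈ Finset.range k,
      ((algebraMap B R₁ c₀) ⊗ₜ (1 : P)) ^ (k - i) * up (b₀ i) * up a₀ ^ i = 0 := by
    rw [← map_zero up, ← hrel₀, map_add, map_pow, map_sum]
    refine congrArg (up a₀ ^ k + ·) (Finset.sum_congr rfl fun i _ => ?_)
    rw [map_mul, map_mul, map_pow, map_pow]
    rfl
  obtain ⟨w, hw⟩ := dvd_of_relation_over hred L l hlinj (fun e0 => hc ((hl c₀).symm.trans ((congrArg l e0).trans (map_zero l))))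
    (k := k) (b := fun i => up (b₀ i)) hrel₁
  rw [hl, hup] at hw
  refine ⟨w, ?_⟩
  have e : ι (c ⊗ₜ (1 : P)) * x = ι (c ⊗ₜ (1 : P)) * ι w := by
    have ha₀' : Algebra.TensorProduct.map B.val (AlgHom.id V P) a₀ = a := ha₀
    rw [ha, ← map_mul, ← ha₀', hw]
  have hu' : IsUnit (ι (c ⊗ₜ (1 : P))) := by
    rw [show ι (c ⊗ₜ (1 : P)) = Algebra.TensorProduct.includeLeftRingHom (algebraMap R' L c) from rfl]
    exact (isUnit_iff_ne_zero.2 ((map_ne_zero_iff _ (IsFractionRing.injective R' L)).2 hc)).map _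
  rw [hu'.mul_left_cancel e, sub_self]
  exact IsNilpotent.zero

/-- Base change. -/
theorem GenClosed.baseChange {V₁ : Type u} [CommRing V₁] [Algebra V V₁] (h : GenClosed V P) :
    GenClosed V₁ (V₁ ⊗[V] P) := by
  intro R' L _ _ _ _ _ _ _ _ _ _ _ x hx
  letI : Algebra V R' := ((algebraMap V₁ R').comp (algebraMap V V₁)).toAlgebra
  letI : Algebra V L := ((algebraMap V₁ L).comp (algebraMap V V₁)).toAlgebra
  haveI : IsScalarTower V V₁ R' := IsScalarTower.of_algebraMap_eq fun _ => rfl
  haveI : IsScalarTower V V₁ L := IsScalarTower.of_algebraMap_eq fun _ => rfl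
  haveI : IsScalarTower V R' L := IsScalarTower.of_algebraMap_eq fun v => by
    show algebraMap V₁ L (algebraMap V V₁ v) = algebraMap R' L (algebraMap V₁ R' (algebraMap V V₁ v))
    exact IsScalarTower.algebraMap_apply V₁ R' L _
  let eR := Algebra.TensorProduct.cancelBaseChange V V₁ R' R' P
  let eL := Algebra.TensorProduct.cancelBaseChange V V₁ L L P
  have hcomm : ∀ y, eL (genMap V₁ (V₁ ⊗[V] P) R' L y) = genMap V P R' L (eR y) := by
    intro y
    induction y using TensorProduct.induction_on with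
    | zero => simp only [map_zero]
    | tmul r m =>
      induction m using TensorProduct.induction_on with
      | zero => simp only [tmul_zero, map_zero]
      | tmul v p =>
        show (v • algebraMap R' L r) ⊗ₜ[V] p = algebraMap R' L (v • r) ⊗ₜ[V] p
        rw [Algebra.algebraMap_eq_smul_one, Algebra.algebraMap_eq_smul_one, smul_assoc]
      | add m n hm hn => simp only [tmul_add, map_add, hm, hn]
    | add y z hy hz => simp only [map_add, hy, hz]
  obtain ⟨f, hf, hfx⟩ := hx
  have hx' : (genMap V P R' L).toRingHom.IsIntegralElem (eL x) := by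
    refine ⟨f.map eR.toRingEquiv.toRingHom, hf.map _, ?_⟩
    have := congrArg eL.toRingEquiv.toRingHom hfx
    rw [map_zero, hom_eval₂] at this
    rw [eval₂_map]
    rw [show eL.toRingEquiv.toRingHom.comp (genMap V₁ (V₁ ⊗[V] P) R' L).toRingHom =
      (genMap V P R' L).toRingHom.comp eR.toRingEquiv.toRingHom from RingHom.ext fun y => hcomm y] at this
    exact this
  obtain ⟨a, ha⟩ := h R' L (eL x) hx'
  refine ⟨eR.symm a, ?_⟩
  rw [← IsNilpotent.map_iff (f := eL) eL.injective, map_sub, hcomm, AlgEquiv.apply_symm_apply]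
  exact ha

/-- Invariance under isomorphism. -/
theorem GenClosed.congr {P' : Type u} [CommRing P'] [Algebra V P'] (e : P ≃ₐ[V] P') (h : GenClosed V P) :
    GenClosed V P' := by
  intro R' L _ _ _ _ _ _ _ _ _ _ _ x hx
  let eR : R' ⊗[V] P ≃ₐ[V] R' ⊗[V] P' := Algebra.TensorProduct.congr AlgEquiv.refl e
  let eL : L ⊗[V] P ≃ₐ[V] L ⊗[V] P' := Algebra.TensorProduct.congr AlgEquiv.refl e
  have hcomm : ∀ y, eL.symm (genMap V P' R' L y) = genMap V P R' L (eR.symm y) := by
    intro y
    induction y using TensorProduct.induction_on with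
    | zero => simp only [map_zero]
    | tmul r p => rfl
    | add y z hy hz => simp only [map_add, hy, hz]
  obtain ⟨f, hf, hfx⟩ := hx
  have hx' : (genMap V P R' L).toRingHom.IsIntegralElem (eL.symm x) := by
    refine ⟨f.map eR.symm.toRingEquiv.toRingHom, hf.map _, ?_⟩
    have := congrArg eL.symm.toRingEquiv.toRingHom hfx
    rw [map_zero, hom_eval₂] at this
    rw [eval₂_map]
    rw [show eL.symm.toRingEquiv.toRingHom.comp (genMap V P' R' L).toRingHom =
      (genMap V P R' L).toRingHom.comp eR.symm.toRingEquiv.toRingHom from RingHom.ext fun y => hcomm y] at this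
    exact this
  obtain ⟨a, ha⟩ := h R' L (eL.symm x) hx'
  refine ⟨eR a, ?_⟩
  rw [← IsNilpotent.map_iff (f := eL.symm) eL.symm.injective, map_sub, hcomm, AlgEquiv.symm_apply_apply]
  exact ha

end Groth.Agent.ZeroAcycLib
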