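import Groth.Agent.ZeroAcycLib.Core
import Groth.Agent.NagataCompleteLib.Unramified
import Groth.Agent.RegLocal.Completion
import Mathlib.RingTheory.AdicCompletion.LocalRing
import Mathlib.RingTheory.Polynomial.ScaleRoots
import Mathlib.RingTheory.Ideal.MinimalPrime.Noetherian
import Mathlib.LinearAlgebra.TensorProduct.Pi
import Mathlib.RingTheory.TensorProduct.Quotient

/-!
# The integral closure of a noetherian local domain

Divisibility by `c` in a flat algebra with reduced fibres over the integral closure of a noetherian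
local domain is detected on the normalizations of the quotients of the completion by minimal primes.
-/

set_option autoImplicit false
set_option linter.unusedSectionVars false
set_option linter.style.haveILetI false

universe u v

open TensorProduct IsLocalRing Polynomial

noncomputable section

namespace Groth.Agent.ZeroAcycLib

variable {R : Type u} [CommRing R] [IsDomain R] [IsLocalRing R] [IsNoetherianRing R]

/-- The completion. -/
abbrev Cpl (R : Type u) [CommRing R] [IsLocalRing R] := AdicCompletion (maximalIdeal R) R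

theorem faithfullyFlat_cpl : Module.FaithfullyFlat R (Cpl R) :=
  RegLocal.faithfullyFlat_completion R (maximalIdeal R) (maximalIdeal.isMaximal R).ne_top

theorem injective_toQuot (q : minimalPrimes (Cpl R)) :
    Function.Injective (algebraMap R (Cpl R ⧸ (q : Ideal (Cpl R)))) := by
  haveI := faithfullyFlat_cpl (R := R)
  rw [injective_iff_map_eq_zero]
  intro x hx
  by_contra hx0
  rw [IsScalarTower.algebraMap_apply R (Cpl R) (Cpl R ⧸ (q : Ideal (Cpl R))), Ideal.Quotient.algebraMap_eq,
    Ideal.Quotient.eq_zero_iff_mem] at hx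
  have hreg : algebraMap R (Cpl R) x ∈ nonZeroDivisors (Cpl R) := by
    rw [mem_nonZeroDivisors_iff_left]
    intro z hz
    have h := Module.Flat.lTensor_preserves_injective_linearMap (M := Cpl R) (LinearMap.mulLeft R x)
      (mul_right_injective₀ hx0)
    have e : (TensorProduct.rid R (Cpl R)) (LinearMap.lTensor (Cpl R) (LinearMap.mulLeft R x) (z ⊗ₜ 1)) = 0 := by
      rw [LinearMap.lTensor_tmul, TensorProduct.rid_tmul, LinearMap.mulLeft_apply, mul_one, Algebra.smul_def, hz]
    have e' := h (((TensorProduct.rid R (Cpl R)).map_eq_zero_iff.1 e).trans (map_zero _).symm)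
    simpa using congrArg (TensorProduct.rid R (Cpl R)) e'
  exact Set.disjoint_left.1 (Ideal.disjoint_nonZeroDivisors_of_mem_minimalPrimes q.2) hx hreg

/-- The fraction field of a branch. -/
abbrev BranchFrac (q : minimalPrimes (Cpl R)) :=
  haveI : (q : Ideal (Cpl R)).IsPrime := Ideal.minimalPrimes_isPrime q.2
  FractionRing (Cpl R ⧸ (q : Ideal (Cpl R)))

instance isPrime_min (q : minimalPrimes (Cpl R)) : (q : Ideal (Cpl R)).IsPrime := Ideal.minimalPrimes_isPrime q.2

/-- A branch of the completion, normalized. -/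
abbrev Branch (q : minimalPrimes (Cpl R)) := integralClosure (Cpl R ⧸ (q : Ideal (Cpl R))) (BranchFrac q)

instance finite_branch (q : minimalPrimes (Cpl R)) :
    Module.Finite (Cpl R ⧸ (q : Ideal (Cpl R))) (Branch q) :=
  NagataCompleteLib.isN2_quot_complete (R := Cpl R) (Cpl R ⧸ (q : Ideal (Cpl R))) Ideal.Quotient.mk_surjective
    (BranchFrac q) inferInstance

instance noetherian_branch (q : minimalPrimes (Cpl R)) : IsNoetherianRing (Branch q) :=
  IsNoetherianRing.of_finite (Cpl R ⧸ (q : Ideal (Cpl R))) (Branch q)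

instance normal_branch (q : minimalPrimes (Cpl R)) : IsIntegrallyClosed (Branch q) :=
  integralClosure.isIntegrallyClosedOfFiniteExtension (BranchFrac q)

/-- The normalization. -/
abbrev Nrml (R : Type u) [CommRing R] [IsDomain R] := integralClosure R (FractionRing R)

theorem injective_toBranchFrac (q : minimalPrimes (Cpl R)) : Function.Injective (algebraMap R (BranchFrac q)) := by
  rw [IsScalarTower.algebraMap_eq R (Cpl R ⧸ (q : Ideal (Cpl R))) (BranchFrac q), RingHom.coe_comp]
  exact (IsFractionRing.injective (Cpl R ⧸ (q : Ideal (Cpl R))) (BranchFrac q)).comp (injective_toQuot q)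

/-- The map of fraction fields. -/
def fracMap (q : minimalPrimes (Cpl R)) : FractionRing R →ₐ[R] BranchFrac q :=
  { toRingHom := IsFractionRing.lift (injective_toBranchFrac q)
    commutes' := fun r => IsFractionRing.lift_algebraMap _ r }

/-- The map of normalizations. -/
def toBranch (q : minimalPrimes (Cpl R)) : Nrml R →ₐ[R] Branch q :=
  { toFun := fun y => ⟨fracMap q y.1, (y.2.map (fracMap q)).tower_top⟩
    map_one' := Subtype.ext (map_one (fracMap q))
    map_mul' := fun y z => Subtype.ext (map_mul (fracMap q) y.1 z.1)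
    map_zero' := Subtype.ext (map_zero (fracMap q))
    map_add' := fun y z => Subtype.ext (map_add (fracMap q) y.1 z.1)
    commutes' := fun r => Subtype.ext ((fracMap q).commutes r) }

/-- An element of the fraction field integral on every branch is integral. -/
theorem isIntegral_of_branches (z : FractionRing R)
    (h : ∀ q : minimalPrimes (Cpl R), IsIntegral (Cpl R ⧸ (q : Ideal (Cpl R))) (fracMap q z)) :
    IsIntegral R z := by
  classical
  haveI := faithfullyFlat_cpl (R := R)
  haveI : Fintype (minimalPrimes (Cpl R)) := (minimalPrimes.finite_of_isNoetherianRing (Cpl R)).fintype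
  obtain ⟨⟨u, v⟩, huv⟩ := IsLocalization.surj (nonZeroDivisors R) z
  choose P hPm hP using h
  choose Q hQ _ hQm using fun q => lifts_and_natDegree_eq_and_monic
    (Polynomial.map_surjective (Ideal.Quotient.mk _) Ideal.Quotient.mk_surjective (P q)) (hPm q)
  let F := ∏ q, Q q
  have hF : F.Monic := monic_prod_of_monic _ _ fun q _ => hQm q
  let v' := algebraMap R (Cpl R) v
  let u' := algebraMap R (Cpl R) u
  let H := (F.scaleRoots v').eval u'
  have hH : IsNilpotent H := by
    rw [← mem_nilradical, nilradical_eq_sInf, Ideal.mem_sInf]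
    intro p hp
    haveI : p.IsPrime := hp
    obtain ⟨q, hq, hqp⟩ := Ideal.exists_minimalPrimes_le (I := (⊥ : Ideal (Cpl R))) (J := p) bot_le
    refine hqp ?_
    let q' : minimalPrimes (Cpl R) := ⟨q, hq⟩
    let φ : Cpl R →+* BranchFrac q' := algebraMap (Cpl R) (BranchFrac q')
    rw [← Ideal.Quotient.eq_zero_iff_mem]
    apply IsFractionRing.injective (Cpl R ⧸ (q' : Ideal (Cpl R))) (BranchFrac q')
    rw [map_zero]
    show φ H = 0
    have hu : φ u' = φ v' * fracMap q' z := by
      show algebraMap (Cpl R) (BranchFrac q') (algebraMap R (Cpl R) u) = _ * _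
      rw [← IsScalarTower.algebraMap_apply, ← (fracMap q').commutes u, ← huv, map_mul, mul_comm]
      congr 1
      exact ((fracMap q').commutes (v : R)).trans (IsScalarTower.algebraMap_apply R (Cpl R) _ _)
    have he : φ = (algebraMap (Cpl R ⧸ (q' : Ideal (Cpl R))) (BranchFrac q')).comp (Ideal.Quotient.mk _) :=
      IsScalarTower.algebraMap_eq (Cpl R) (Cpl R ⧸ (q' : Ideal (Cpl R))) (BranchFrac q')
    show φ (eval₂ (RingHom.id (Cpl R)) u' (F.scaleRoots v')) = 0
    rw [Polynomial.hom_eval₂, RingHom.comp_id, hu, scaleRoots_eval₂_mul]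
    refine mul_eq_zero_of_right _ ?_
    show eval₂ φ _ (∏ q, Q q) = 0
    rw [eval₂_finsetProd]
    refine Finset.prod_eq_zero (Finset.mem_univ q') ?_
    rw [he, ← eval₂_map, hQ q']
    exact hP q'
  obtain ⟨e, he⟩ := hH
  let G := F ^ e
  have hG : G.Monic := hF.pow e
  have hG0 : (G.scaleRoots v').eval u' = 0 := by
    rw [← he]
    clear_value u' v'
    show ((F ^ e).scaleRoots v').eval u' = ((F.scaleRoots v').eval u') ^ e
    clear hG he G
    induction e with
    | zero => simp
    | succ e ih =>
      rw [pow_succ, pow_succ, mul_scaleRoots' _ _ _ ?_, eval_mul, ih]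
      rw [(hF.pow e).leadingCoeff, hF.leadingCoeff, one_mul]
      exact one_ne_zero
  let d := G.natDegree
  let I : Ideal R := Ideal.span (Set.range fun i : Fin d => (v : R) ^ (d - (i : ℕ)) * u ^ (i : ℕ))
  have hmem : u ^ d ∈ I := by
    rw [← Ideal.comap_map_eq_self_of_faithfullyFlat (B := Cpl R) I, Ideal.mem_comap, map_pow]
    show u' ^ d ∈ _
    rw [eval_eq_sum_range, natDegree_scaleRoots, Finset.sum_range_succ] at hG0
    simp only [coeff_scaleRoots] at hG0
    rw [Nat.sub_self, pow_zero, mul_one, hG.coeff_natDegree, one_mul] at hG0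
    rw [eq_neg_of_add_eq_zero_right hG0]
    refine neg_mem (sum_mem fun i hi => ?_)
    rw [mul_assoc]
    refine Ideal.mul_mem_left _ _ ?_
    have : algebraMap R (Cpl R) ((v : R) ^ (d - i) * u ^ i) ∈ I.map (algebraMap R (Cpl R)) :=
      Ideal.mem_map_of_mem _ (Ideal.subset_span ⟨⟨i, Finset.mem_range.1 hi⟩, rfl⟩)
    rwa [map_mul, map_pow, map_pow] at this
  obtain ⟨r, hr⟩ := (Submodule.mem_span_range_iff_exists_fun R).1 hmem
  refine ⟨X ^ d - ∑ i : Fin d, C (r i) * X ^ (i : ℕ), monic_X_pow_sub (degree_sum_fin_lt r), ?_⟩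
  rw [eval₂_sub, eval₂_pow, eval₂_X, eval₂_finsetSum, sub_eq_zero]
  simp only [eval₂_mul, eval₂_C, eval₂_pow, eval₂_X]
  let K := FractionRing R
  have hv : algebraMap R K v ≠ 0 := fun e0 =>
    nonZeroDivisors.ne_zero v.2 (IsFractionRing.injective R K (e0.trans (map_zero _).symm))
  refine mul_right_cancel₀ (pow_ne_zero d hv) ?_
  rw [← mul_pow, show z * algebraMap R K v = algebraMap R K u from huv, ← map_pow, ← hr, map_sum, Finset.sum_mul]
  refine Finset.sum_congr rfl fun i _ => ?_
  show algebraMap R K (r i * ((v : R) ^ (d - (i : ℕ)) * u ^ (i : ℕ))) = _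
  rw [map_mul, map_mul, map_pow, map_pow, ← show z * algebraMap R K v = algebraMap R K u from huv, mul_pow,
    show algebraMap R K (v : R) ^ d = algebraMap R K v ^ (d - (i : ℕ)) * algebraMap R K v ^ (i : ℕ) by
      rw [← pow_add, Nat.sub_add_cancel i.2.le]]
  ring

theorem rTensor_pi_eq_zero {A : Type u} [CommRing A] {N : Type u} [AddCommGroup N] [Module A N]
    {M : Type v} [AddCommGroup M] [Module A M] {J : Type u} [Fintype J] [DecidableEq J] {Q : J → Type u}
    [∀ j, AddCommGroup (Q j)] [∀ j, Module A (Q j)] (ψ : ∀ j, N →ₗ[A] Q j) (x : N ⊗[A] M)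
    (h : ∀ j, LinearMap.rTensor M (ψ j) x = 0) : LinearMap.rTensor M (LinearMap.pi ψ) x = 0 := by
  apply (TensorProduct.comm A _ M).injective
  apply (TensorProduct.piRight A A M Q).injective
  rw [map_zero, map_zero]
  funext j
  have key : ∀ y : N ⊗[A] M, TensorProduct.piRight A A M Q (TensorProduct.comm A _ M (LinearMap.rTensor M (LinearMap.pi ψ) y)) j =
      TensorProduct.comm A (Q j) M (LinearMap.rTensor M (ψ j) y) := by
    intro y
    induction y using TensorProduct.induction_on with
    | zero => simp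
    | tmul r s => rfl
    | add x y hx hy => simp only [map_add, Pi.add_apply, hx, hy]
  rw [key, h j, map_zero, Pi.zero_apply]

theorem rTensor_quot_eq_zero {A : Type u} [CommRing A] {N B : Type u} [CommRing N] [Algebra A N] [CommRing B]
    [Algebra A B] {M : Type v} [CommRing M] [Algebra A M] (θ : N →ₐ[A] B) (c : B) (x : N ⊗[A] M)
    (h : algebraMap B (B ⊗[A] M) c ∣ Algebra.TensorProduct.map θ (AlgHom.id A M) x) :
    LinearMap.rTensor M ((Ideal.Quotient.mkₐ A (Ideal.span {c})).comp θ).toLinearMap x = 0 := by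
  have key : ∀ y : N ⊗[A] M, LinearMap.rTensor M ((Ideal.Quotient.mkₐ A (Ideal.span {c})).comp θ).toLinearMap y =
      Algebra.TensorProduct.map (Ideal.Quotient.mkₐ A (Ideal.span {c})) (AlgHom.id A M)
        (Algebra.TensorProduct.map θ (AlgHom.id A M) y) := by
    intro y
    induction y using TensorProduct.induction_on with
    | zero => simp
    | tmul r s => rfl
    | add x y hx hy => simp only [map_add, hx, hy]
  obtain ⟨w, hw⟩ := h
  rw [key, hw, map_mul, Algebra.TensorProduct.algebraMap_apply, Algebra.algebraMap_self, RingHom.id_apply,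
    Algebra.TensorProduct.map_tmul, Ideal.Quotient.mkₐ_eq_mk, Ideal.Quotient.eq_zero_iff_mem.2
      (Ideal.mem_span_singleton_self c), zero_tmul, zero_mul]

variable {M : Type v} [CommRing M] [Algebra R M] [Module.Flat R M]
  (hred : ∀ (K : Type u) [Field K] [Algebra R K], IsReduced (K ⊗[R] M))

/-- The map to the product of the branches modulo `c`. -/
def branchQuot (c : Nrml R) :
    Nrml R →ₗ[R] ∀ q : minimalPrimes (Cpl R), Branch q ⧸ Ideal.span {toBranch q c} :=
  LinearMap.pi fun q => ((Ideal.Quotient.mkₐ R (Ideal.span {toBranch q c})).comp (toBranch q)).toLinearMap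

theorem exact_branchQuot {c : Nrml R} (hc : c ≠ 0) :
    Function.Exact (LinearMap.mulLeft R c) (branchQuot c) := by
  intro y
  refine ⟨fun hy => ?_, ?_⟩
  · have hcf : (c.1 : FractionRing R) ≠ 0 := fun e => hc (Subtype.ext e)
    have hz : IsIntegral R ((y.1 : FractionRing R) / c.1) := by
      refine isIntegral_of_branches _ fun q => ?_
      have hq : Ideal.Quotient.mk (Ideal.span {toBranch q c}) (toBranch q y) = 0 := congrFun hy q
      rw [Ideal.Quotient.eq_zero_iff_mem, Ideal.mem_span_singleton] at hq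
      obtain ⟨w, hw⟩ := hq
      have hw' : fracMap q y.1 = fracMap q c.1 * w.1 := congrArg Subtype.val hw
      have : fracMap q (y.1 / c.1) = w.1 := by
        rw [map_div₀, hw', mul_div_cancel_left₀ _ ((_root_.map_ne_zero _).2 hcf)]
      rw [this]
      exact w.2
    exact ⟨⟨_, hz⟩, Subtype.ext (mul_div_cancel₀ _ hcf)⟩
  · rintro ⟨w, rfl⟩
    funext q
    show Ideal.Quotient.mk (Ideal.span {toBranch q c}) (toBranch q (c * w)) = 0
    rw [Ideal.Quotient.eq_zero_iff_mem, map_mul]
    exact Ideal.mul_mem_right _ _ (Ideal.mem_span_singleton_self _)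

theorem dvd_of_rTensor_mk_zero {c : Nrml R} {P : Type u} [AddCommGroup P] [Module R P] (ψ : Nrml R →ₗ[R] P)
    (hψ : Function.Exact (LinearMap.mulLeft R c) ψ) (a : Nrml R ⊗[R] M) (ha : LinearMap.rTensor M ψ a = 0) :
    algebraMap (Nrml R) (Nrml R ⊗[R] M) c ∣ a := by
  have ha' : LinearMap.rTensor M ψ.rangeRestrict a = 0 := by
    refine Module.Flat.rTensor_preserves_injective_linearMap (M := M) _ (Submodule.subtype_injective _) ?_
    rw [map_zero, ← LinearMap.rTensor_comp_apply,
      show (LinearMap.range ψ).subtype ∘ₗ ψ.rangeRestrict = ψ from LinearMap.ext fun _ => rfl, ha]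
  have hex : Function.Exact (LinearMap.mulLeft R c) ψ.rangeRestrict := fun y => by
    rw [← hψ y]
    exact ⟨fun e => congrArg Subtype.val e, fun e => Subtype.ext e⟩
  obtain ⟨w, rfl⟩ := ((rTensor_exact M hex ψ.surjective_rangeRestrict) a).1 ha'
  clear ha ha'
  induction w using TensorProduct.induction_on with
  | zero => simp
  | tmul s t =>
    refine ⟨s ⊗ₜ t, ?_⟩
    rw [LinearMap.rTensor_tmul, LinearMap.mulLeft_apply, Algebra.TensorProduct.algebraMap_apply, Algebra.algebraMap_self,
      RingHom.id_apply, Algebra.TensorProduct.tmul_mul_tmul, one_mul]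
  | add x y hx hy => rw [map_add]; exact dvd_add hx hy

include hred in
theorem branch_dvd {c : Nrml R} (hc : c ≠ 0) {a : Nrml R ⊗[R] M} (k : ℕ) (b : ℕ → Nrml R ⊗[R] M)
    (h : a ^ k + ∑ i ∈ Finset.range k, algebraMap (Nrml R) (Nrml R ⊗[R] M) c ^ (k - i) * b i * a ^ i = 0)
    (q : minimalPrimes (Cpl R)) :
    algebraMap (Branch q) (Branch q ⊗[R] M) (toBranch q c) ∣ Algebra.TensorProduct.map (toBranch q) (AlgHom.id R M) a := by
  let Φ : Nrml R ⊗[R] M →ₐ[R] Branch q ⊗[R] M := Algebra.TensorProduct.map (toBranch q) (AlgHom.id R M)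
  have hΦ : Φ (algebraMap (Nrml R) (Nrml R ⊗[R] M) c) = algebraMap (Branch q) (Branch q ⊗[R] M) (toBranch q c) :=
    Algebra.TensorProduct.map_tmul _ _ _ _
  refine dvd_of_integral_relation (fun p _ => ?_) (fun e => hc ?_) k (fun i => Φ (b i)) ?_
  · haveI := hred p.ResidueField
    exact isReduced_of_injective (Algebra.TensorProduct.cancelBaseChange R (Branch q) (Branch q) p.ResidueField M)
      (AlgEquiv.injective _)
  · exact Subtype.ext ((fracMap q).injective ((congrArg Subtype.val e).trans (map_zero _).symm))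
  · rw [← map_zero Φ, ← h, map_add, map_pow, map_sum]
    refine congrArg (Φ a ^ k + ·) (Finset.sum_congr rfl fun i _ => ?_)
    rw [map_mul, map_mul, map_pow, map_pow, hΦ]

include hred in
/-- Elements integral over `Nrml R ⊗ M` with denominator `c` are divisible by `c`. -/
theorem dvd_of_integral_relation_local {c : Nrml R} (hc : c ≠ 0) {a : Nrml R ⊗[R] M} (k : ℕ)
    (b : ℕ → Nrml R ⊗[R] M)
    (h : a ^ k + ∑ i ∈ Finset.range k,
      algebraMap (Nrml R) (Nrml R ⊗[R] M) c ^ (k - i) * b i * a ^ i = 0) :
    algebraMap (Nrml R) (Nrml R ⊗[R] M) c ∣ a := by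
  classical
  haveI : Fintype (minimalPrimes (Cpl R)) := (minimalPrimes.finite_of_isNoetherianRing (Cpl R)).fintype
  exact dvd_of_rTensor_mk_zero (branchQuot c) (exact_branchQuot hc) a
    (rTensor_pi_eq_zero (A := R) (J := minimalPrimes (Cpl R)) _ a fun q =>
      rTensor_quot_eq_zero (toBranch q) (toBranch q c) a (branch_dvd hred hc k b h q))

end Groth.Agent.ZeroAcycLib
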