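import Mathlib.RingTheory.Flat.EquationalCriterion
import Mathlib.RingTheory.Flat.Stability
import Mathlib.RingTheory.Localization.BaseChange
import Mathlib.RingTheory.LocalRing.ResidueField.Ideal
import Mathlib.RingTheory.IntegralClosure.IntegrallyClosed
import Mathlib.RingTheory.IntegralClosure.Algebra.Basic
import Mathlib.RingTheory.Localization.Integral
import Mathlib.RingTheory.Localization.Submodule
import Mathlib.RingTheory.UniqueFactorizationDomain.Multiplicity
import Mathlib.RingTheory.TensorProduct.Maps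
import Mathlib.RingTheory.Nilpotent.Defs
import Mathlib.LinearAlgebra.TensorProduct.RightExactness

/-!
# Flat algebras with reduced fibres over normal noetherian domains are integrally closed generically

If `M` is flat over a normal noetherian domain `N` with reduced fibres and `a / c` is integral over `M`
(`c ≠ 0` in `N`), then `c` divides `a` in `M`.
-/

set_option autoImplicit false
set_option linter.unusedSectionVars false
set_option linter.style.haveILetI false

universe u v

open TensorProduct IsLocalRing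

noncomputable section

namespace Groth.Agent.ZeroAcycLib

section Colon

variable {S : Type u} [CommRing S] [IsDomain S] [IsNoetherianRing S] [IsLocalRing S] [IsIntegrallyClosed S]

/-- Either the maximal ideal of a normal noetherian local domain is principal or it has no colons. -/
theorem mem_span_of_mul_maximalIdeal_le (hm : ¬ ∃ π, maximalIdeal S = Ideal.span {π}) {c y : S} (hc : c ≠ 0)
    (h : ∀ r ∈ maximalIdeal S, c ∣ r * y) : c ∣ y := by
  let K := FractionRing S
  let ι := algebraMap S K
  have hi : Function.Injective ι := IsFractionRing.injective S K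
  have hc' : ι c ≠ 0 := fun e => hc (hi (e.trans (map_zero ι).symm))
  let z : K := ι y / ι c
  have key : ∀ r ∈ maximalIdeal S, ∃ s ∈ maximalIdeal S, z * ι r = ι s := by
    intro r hr
    obtain ⟨s, hs⟩ := h r hr
    refine ⟨s, ?_, ?_⟩
    · by_contra hsu
      apply hm
      have hu : IsUnit s := by
        by_contra hn
        exact hsu ((mem_maximalIdeal _).2 hn)
      refine ⟨r, le_antisymm (fun r' hr' => ?_) ((Ideal.span_singleton_le_iff_mem _).2 hr)⟩
      obtain ⟨s', hs'⟩ := h r' hr'
      rw [Ideal.mem_span_singleton]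
      refine ⟨s' * (hu.unit⁻¹ : Sˣ), mul_left_cancel₀ (mul_ne_zero hc hu.ne_zero) ?_⟩
      have e : c * (s' * r) = c * (s * r') := by
        rw [← mul_assoc, ← hs', ← mul_assoc, ← hs]; ring
      have hss : s * (hu.unit⁻¹ : Sˣ) = 1 := hu.mul_val_inv
      calc c * s * r' = c * (s' * r) := by rw [e, mul_assoc]
        _ = c * (s * (hu.unit⁻¹ : Sˣ)) * (r * s') := by rw [hss]; ring
        _ = _ := by ring
    · show ι y / ι c * ι r = ι s
      rw [div_mul_eq_mul_div, div_eq_iff hc', ← map_mul, ← map_mul, mul_comm y r, hs, mul_comm]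
  have hne : Submodule.map (Algebra.linearMap S K) (maximalIdeal S) ≠ ⊥ := by
    intro e
    apply hm
    refine ⟨0, ?_⟩
    rw [Ideal.span_singleton_zero]
    exact Submodule.map_injective_of_injective (f := Algebra.linearMap S K) hi (e.trans (Submodule.map_bot _).symm)
  have hz : IsIntegral S z := by
    refine isIntegral_of_smul_mem_submodule _ hne ((IsNoetherian.noetherian (maximalIdeal S)).map _) z ?_
    rintro _ ⟨r, hr, rfl⟩
    obtain ⟨s, hs, e⟩ := key r hr
    exact ⟨s, hs, e.symm⟩
  obtain ⟨t, ht⟩ := IsIntegrallyClosed.isIntegral_iff.1 hz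
  refine ⟨t, hi ?_⟩
  rw [map_mul, show ι t = z from ht, mul_div_cancel₀ _ hc']

variable {M : Type v} [CommRing M] [Algebra S M] [Module.Flat S M]

/-- Divisibility in a flat module along a non-principal maximal ideal. -/
theorem dvd_of_mul_maximalIdeal (hm : ¬ ∃ π, maximalIdeal S = Ideal.span {π}) {c : S} (hc : c ≠ 0) {x : M}
    (h : ∀ r ∈ maximalIdeal S, algebraMap S M c ∣ algebraMap S M r * x) : algebraMap S M c ∣ x := by
  obtain ⟨s, r, hr⟩ := Submodule.fg_iff_exists_fin_generating_family.1 (IsNoetherian.noetherian (maximalIdeal S))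
  have hrm : ∀ i, r i ∈ maximalIdeal S := fun i => hr ▸ Submodule.subset_span ⟨i, rfl⟩
  choose w hw using fun i => h (r i) (hrm i)
  let f : (Fin s → S) →ₗ[S] S × (Fin s → S) :=
    { toFun := fun z => (∑ i, z i * r i, fun i => -(c * z i))
      map_add' := fun z z' => Prod.ext (by simp [add_mul, Finset.sum_add_distrib]) (funext fun i => by simp; ring)
      map_smul' := fun a z => Prod.ext (by simp [Finset.mul_sum, mul_assoc]) (funext fun i => by simp; ring) }
  let g : S × (Fin s → S) →ₗ[S] M :=
    (LinearMap.toSpanSingleton S M x).coprod (Fintype.linearCombination S w)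
  have hgf : g ∘ₗ f = 0 := by
    refine LinearMap.ext fun z => ?_
    show (∑ i, z i * r i) • x + Fintype.linearCombination S w (fun i => -(c * z i)) = 0
    rw [Fintype.linearCombination_apply, Finset.sum_smul, ← Finset.sum_add_distrib]
    refine Finset.sum_eq_zero fun i _ => ?_
    rw [neg_smul, Algebra.smul_def, Algebra.smul_def, map_mul, map_mul, mul_assoc, hw i]
    ring
  obtain ⟨k, A, y, hgy, hAf⟩ := Module.Flat.exists_factorization_of_comp_eq_zero_of_free hgf
  have hA : ∀ j, c ∣ (A (1, 0)) j := by
    intro j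
    refine mem_span_of_mul_maximalIdeal_le hm hc fun t ht => ?_
    rw [← hr, Submodule.mem_span_range_iff_exists_fun] at ht
    obtain ⟨q, rfl⟩ := ht
    have h0 := congr($hAf q j)
    simp only [LinearMap.comp_apply, LinearMap.zero_apply, Finsupp.coe_zero, Pi.zero_apply] at h0
    have e : f q = (∑ i, q i * r i) • ((1 : S), (0 : Fin s → S)) + (-c) • ((0 : S), q) :=
      Prod.ext (by simp [f]) (funext fun i => by simp [f])
    rw [e, map_add, map_smul, map_smul, Finsupp.add_apply, Finsupp.smul_apply, Finsupp.smul_apply] at h0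
    simp only [smul_eq_mul] at h0 ⊢
    exact ⟨(A (0, q)) j, by rw [neg_mul, ← sub_eq_add_neg, sub_eq_zero] at h0; exact h0⟩
  choose q hq using hA
  refine ⟨y (Finsupp.equivFunOnFinite.symm q), ?_⟩
  have hA1 : A (1, 0) = c • Finsupp.equivFunOnFinite.symm q := Finsupp.ext fun j => by simp [hq j]
  have hx : g (1, 0) = x := by simp [g]
  rw [← hx, hgy, LinearMap.comp_apply, hA1, map_smul, Algebra.smul_def]

end Colon

theorem exp_eq {n m k i : ℕ} (hmn : m < n) (hi : i < k) :
    n * (k - i) + m * i = m * k + (1 + ((n - m) * (k - i) - 1)) := by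
  obtain ⟨d, rfl⟩ := Nat.exists_eq_add_of_le hmn.le
  obtain ⟨e, rfl⟩ := Nat.exists_eq_add_of_le hi.le
  simp only [Nat.add_sub_cancel_left]
  have hd : 1 ≤ d * e := Nat.one_le_iff_ne_zero.2 (Nat.mul_ne_zero (by omega) (by omega))
  rw [Nat.add_sub_cancel' hd]
  ring

variable {N : Type u} [CommRing N] [IsDomain N] [IsNoetherianRing N] [IsIntegrallyClosed N]
  {M : Type v} [CommRing M] [Algebra N M] [Module.Flat N M]
  (hred : ∀ (p : Ideal N) [p.IsPrime], IsReduced (p.ResidueField ⊗[N] M))

include hred in
/-- An element whose quotient by `c` is integral over `M` is divisible by `c`. -/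
theorem dvd_of_integral_relation {c : N} (hc : c ≠ 0) {a : M} (k : ℕ) (b : ℕ → M)
    (h : a ^ k + ∑ i ∈ Finset.range k, algebraMap N M c ^ (k - i) * b i * a ^ i = 0) :
    algebraMap N M c ∣ a := by
  by_contra hna
  let col : N → Ideal N := fun r =>
    ((Ideal.span {algebraMap N M c}).restrictScalars N).comap (LinearMap.toSpanSingleton N M (r • a))
  have mem_col : ∀ r t, t ∈ col r ↔ algebraMap N M c ∣ t • r • a := fun r t =>
    Ideal.mem_span_singleton
  obtain ⟨(p : Ideal N), ⟨r, hr, hp⟩, hmax⟩ := set_has_maximal_iff_noetherian.2 ‹IsNoetherianRing N›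
    {I | ∃ r, ¬ algebraMap N M c ∣ r • a ∧ I = col r} ⟨col 1, 1, by rwa [one_smul], rfl⟩
  haveI hpp : Ideal.IsPrime p := by
    refine ⟨fun e => hr ?_, fun {t t'} htt => ?_⟩
    · have := (mem_col r 1).1 (by rw [← hp, e]; trivial)
      rwa [one_smul] at this
    · by_contra hn
      rw [not_or, hp, mem_col] at hn
      have hle : p ≤ col (t * r) := fun z hz => by
        rw [mem_col, mul_smul, smul_comm z t, Algebra.smul_def t]
        exact Dvd.dvd.mul_left ((mem_col r z).1 (hp ▸ hz)) _
      have : col (t * r) = p := (hle.eq_or_lt.resolve_right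
        (hmax _ ⟨t * r, by rw [mul_smul]; exact hn.1, rfl⟩)).symm
      have ht' : t' ∈ col (t * r) := by
        rw [mem_col, smul_smul, show t' * (t * r) = t * t' * r by ring, mul_smul]
        exact (mem_col r (t * t')).1 (hp ▸ htt)
      rw [this, hp] at ht'
      exact hn.2 ht'
  let S := Localization.AtPrime p
  let Ms := S ⊗[N] M
  let ι : M →ₐ[N] Ms := Algebra.TensorProduct.includeRight
  haveI : IsIntegrallyClosed S := isIntegrallyClosed_of_isLocalization S p.primeCompl p.primeCompl_le_nonZeroDivisors
  haveI : IsNoetherianRing S := IsLocalization.isNoetherianRing p.primeCompl S inferInstance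
  haveI : IsDomain S := IsLocalization.isDomain_localization p.primeCompl_le_nonZeroDivisors
  let cS := algebraMap N S c
  have hcS : cS ≠ 0 := fun e => hc (IsLocalization.injective S p.primeCompl_le_nonZeroDivisors (e.trans (map_zero _).symm))
  have hι : ∀ z : N, ι (algebraMap N M z) = algebraMap S Ms (algebraMap N S z) := fun z => by
    rw [ι.commutes, ← IsScalarTower.algebraMap_apply]
  -- the element `r • a` is not divisible by `c` at `p`
  have hx : ¬ algebraMap S Ms cS ∣ ι (r • a) := by
    rintro ⟨w, hw⟩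
    obtain ⟨⟨w', t⟩, ht⟩ := IsLocalizedModule.surj p.primeCompl (TensorProduct.mk N S M 1) w
    have e : TensorProduct.mk N S M 1 ((t : N) • r • a) = TensorProduct.mk N S M 1 (c • w') := by
      refine ((map_smul _ _ _).trans (?_ : (t : N) • ι (r • a) = c • TensorProduct.mk N S M 1 w')).trans
        (map_smul _ _ _).symm
      rw [hw, ← ht, show (t • w : Ms) = (t : N) • w from rfl, smul_comm c, ← algebraMap_smul S c w]
      exact congrArg _ (Algebra.smul_def _ _).symm
    obtain ⟨t', ht'⟩ := IsLocalizedModule.exists_of_eq (S := p.primeCompl) e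
    have hmem : ((t' * t : p.primeCompl) : N) ∈ col r := by
      rw [mem_col, Submonoid.coe_mul, mul_smul]
      refine ⟨(t' : N) • w', ?_⟩
      refine ((Submonoid.smul_def t' _).symm.trans ht').trans ?_
      rw [Submonoid.smul_def, smul_comm, Algebra.smul_def c]
    rw [← hp] at hmem
    exact (t' * t).2 hmem
  have hmS : ∀ z ∈ maximalIdeal S, algebraMap S Ms cS ∣ algebraMap S Ms z * ι (r • a) := by
    intro z hz
    rw [← Localization.AtPrime.map_eq_maximalIdeal] at hz
    refine Submodule.span_induction ?_ (by simp) (fun x y _ _ hx hy => ?_) (fun s x _ hx => ?_) hz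
    · rintro _ ⟨z, hz, rfl⟩
      obtain ⟨w, hw⟩ := (mem_col r z).1 (hp ▸ hz)
      refine ⟨ι w, ?_⟩
      rw [← hι, ← hι, ← map_mul, ← map_mul, ← Algebra.smul_def, hw]
    · rw [map_add, add_mul]; exact dvd_add hx hy
    · rw [smul_eq_mul, map_mul, mul_assoc]; exact hx.mul_left _
  by_cases hm : ∃ π, maximalIdeal S = Ideal.span {π}
  case neg => exact hx (dvd_of_mul_maximalIdeal hm hcS hmS)
  obtain ⟨π, hπ⟩ := hm
  have hcp : c ∈ p := by
    rw [hp, mem_col, Algebra.smul_def]
    exact dvd_mul_right _ _
  have hπ0 : π ≠ 0 := by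
    rintro rfl
    rw [Ideal.span_singleton_zero] at hπ
    exact hcS (Ideal.mem_bot.1 (hπ ▸ (IsLocalization.AtPrime.to_map_mem_maximal_iff S p c).2 hcp))
  have hπu : ¬ IsUnit π := fun hu => (maximalIdeal.isMaximal S).ne_top (hπ.trans (Ideal.span_singleton_eq_top.2 hu))
  obtain ⟨n, u, hu, hcu⟩ := WfDvdMonoid.max_power_factor hcS
    (Irreducible.mk hπu fun x y e => by
      by_contra hn
      rw [not_or] at hn
      have hxm : x ∈ maximalIdeal S := (mem_maximalIdeal _).2 hn.1
      have hym : y ∈ maximalIdeal S := (mem_maximalIdeal _).2 hn.2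
      rw [hπ, Ideal.mem_span_singleton] at hxm hym
      obtain ⟨x', rfl⟩ := hxm
      obtain ⟨y', rfl⟩ := hym
      exact hπu (IsUnit.of_mul_eq_one (x' * y') (mul_left_cancel₀ hπ0 (by rw [mul_one]; nth_rw 3 [e]; ring))))
  have huu : IsUnit u := by
    by_contra hn
    have : u ∈ maximalIdeal S := (mem_maximalIdeal _).2 hn
    rw [hπ, Ideal.mem_span_singleton] at this
    exact hu this
  let P := algebraMap S Ms π
  classical
  let m := Nat.findGreatest (fun j => P ^ j ∣ ι a) n
  have hm1 : P ^ m ∣ ι a := Nat.findGreatest_spec (P := fun j => P ^ j ∣ ι a) (Nat.zero_le n) (by simp)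
  have hmn : m ≤ n := Nat.findGreatest_le n
  rcases hmn.lt_or_eq with hlt | heq
  · obtain ⟨a', ha'⟩ := hm1
    have hnd : ∀ (j : ℕ) (z : Ms), P ^ j * z = 0 → z = 0 := by
      intro j z hz
      have hreg : Function.Injective (LinearMap.lTensor Ms (LinearMap.mulLeft S (π ^ j))) :=
        Module.Flat.lTensor_preserves_injective_linearMap _ (mul_right_injective₀ (pow_ne_zero j hπ0))
      have e : (TensorProduct.rid S Ms) (LinearMap.lTensor Ms (LinearMap.mulLeft S (π ^ j)) (z ⊗ₜ 1)) = 0 := by
        rw [LinearMap.lTensor_tmul, TensorProduct.rid_tmul, LinearMap.mulLeft_apply, mul_one]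
        exact (Algebra.smul_def _ _).trans ((congrArg (· * z) (map_pow _ _ _)).trans hz)
      have e' := hreg (((TensorProduct.rid S Ms).map_eq_zero_iff.1 e).trans (map_zero _).symm)
      simpa using congrArg (TensorProduct.rid S Ms) e'
    let U := algebraMap S Ms u
    have hC : ι (algebraMap N M c) = P ^ n * U := by
      rw [hι]
      show algebraMap S Ms cS = _
      rw [hcu, map_mul, map_pow]
    have h' := congrArg ι h
    rw [map_add, map_zero, map_pow, map_sum, ha', mul_pow] at h'
    let R' : Ms := ∑ i ∈ Finset.range k, P ^ ((n - m) * (k - i) - 1) * U ^ (k - i) * ι (b i) * a' ^ i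
    have hs : ∀ i ∈ Finset.range k, ι (algebraMap N M c ^ (k - i) * b i * a ^ i) =
        (P ^ m) ^ k * (P * (P ^ ((n - m) * (k - i) - 1) * U ^ (k - i) * ι (b i) * a' ^ i)) := by
      intro i hi
      rw [Finset.mem_range] at hi
      have hd : 1 ≤ (n - m) * (k - i) := Nat.one_le_iff_ne_zero.2 (Nat.mul_ne_zero (by omega) (by omega))
      have hexp := exp_eq hlt hi
      have e : P ^ (n * (k - i)) * (P ^ m) ^ i = (P ^ m) ^ k * (P * P ^ ((n - m) * (k - i) - 1)) := by
        rw [← pow_mul, ← pow_mul, ← pow_succ', ← pow_add, ← pow_add, hexp]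
        congr 1
        omega
      rw [map_mul, map_mul, map_pow, map_pow, hC, ha', mul_pow, mul_pow, ← pow_mul]
      linear_combination (U ^ (k - i) * ι (b i) * a' ^ i) * e
    rw [Finset.sum_congr rfl hs, ← Finset.mul_sum, ← Finset.mul_sum, ← mul_add, ← pow_mul] at h'
    have hpow : a' ^ k = -(P * R') := eq_neg_of_add_eq_zero_left (hnd _ _ h')
    -- reducedness of the fibre
    let fκ : S →ₐ[N] p.ResidueField := IsScalarTower.toAlgHom N S p.ResidueField
    let φ : Ms →ₐ[N] p.ResidueField ⊗[N] M := Algebra.TensorProduct.map fκ (AlgHom.id N M)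
    have hfπ : fκ π = 0 := by
      show residue S π = 0
      rw [residue_eq_zero_iff, hπ]
      exact Ideal.mem_span_singleton_self π
    have hφP : φ P = 0 := by
      show φ (π ⊗ₜ (1 : M)) = 0
      rw [Algebra.TensorProduct.map_tmul, hfπ, zero_tmul]
    have ha'0 : φ a' = 0 := by
      haveI := hred p
      refine IsReduced.eq_zero _ ⟨k, ?_⟩
      rw [← map_pow, hpow, map_neg, map_mul, hφP, zero_mul, neg_zero]
    have hex : Function.Exact (LinearMap.rTensor M ((LinearMap.mulLeft S π).restrictScalars N))
        (LinearMap.rTensor M fκ.toLinearMap) := by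
      refine rTensor_exact M (fun z => ⟨fun hz => ?_, ?_⟩) residue_surjective
      · have : z ∈ maximalIdeal S := (residue_eq_zero_iff z).1 hz
        rw [hπ, Ideal.mem_span_singleton] at this
        obtain ⟨w, rfl⟩ := this
        exact ⟨w, rfl⟩
      · rintro ⟨w, rfl⟩
        show fκ (π * w) = 0
        rw [map_mul, hfπ, zero_mul]
    obtain ⟨w, hw⟩ := (hex a').1 (ha'0 : φ a' = 0)
    have hdvd : ∀ z : Ms, P ∣ LinearMap.rTensor M ((LinearMap.mulLeft S π).restrictScalars N) z := by
      intro z
      induction z using TensorProduct.induction_on with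
      | zero => simp
      | tmul s t =>
        refine ⟨s ⊗ₜ t, ?_⟩
        rw [LinearMap.rTensor_tmul]
        show (π * s) ⊗ₜ t = (π ⊗ₜ (1 : M)) * (s ⊗ₜ t)
        rw [Algebra.TensorProduct.tmul_mul_tmul, one_mul]
      | add x y hx hy => rw [map_add]; exact dvd_add hx hy
    have : P ^ (m + 1) ∣ ι a := by
      rw [ha', pow_succ]
      exact mul_dvd_mul_left _ (hw ▸ hdvd w)
    exact Nat.findGreatest_is_greatest (P := fun j => P ^ j ∣ ι a) (Nat.lt_succ_self m) (by omega) this
  · apply hx
    have h1 : algebraMap S Ms cS ∣ ι a := by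
      rw [heq] at hm1
      rw [hcu, map_mul, map_pow]
      exact ((huu.map (algebraMap S Ms)).mul_right_dvd).2 hm1
    rw [Algebra.smul_def, map_mul]
    exact h1.mul_left _

end Groth.Agent.ZeroAcycLib
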