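import Groth.Agent.ZeroAcycLib.Closed
import Groth.Agent.S1467
import Groth.Agent.S12237
import Groth.Agent.WLocalLib.Olivier
import Mathlib.RingTheory.Smooth.IntegralClosure
import Mathlib.RingTheory.Etale.Basic
import Mathlib.RingTheory.AdjoinRoot

/-!
# Idempotents of generic fibres of weakly étale local algebras
-/

set_option autoImplicit false
set_option linter.unusedSectionVars false
set_option linter.style.haveILetI false
set_option maxHeartbeats 1000000

universe u

open TensorProduct IsLocalRing Polynomial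

noncomputable section

namespace Groth.Agent.ZeroAcycLib

/-- Integral elements after an extension preserving integral closures. -/
theorem exists_lift_of_bijective {A E AL : Type u} [CommRing A] [CommRing E] [CommRing AL] [Algebra A E]
    [Algebra A AL] (hb : Function.Bijective (TensorProduct.toIntegralClosure A E AL))
    (hclosed : ∀ x : AL, IsIntegral A x → ∃ a, IsNilpotent (x - algebraMap A AL a))
    (x : E ⊗[A] AL) (hx : IsIntegral E x) : ∃ t : E, IsNilpotent (x - t ⊗ₜ[A] (1 : AL)) := by
  obtain ⟨y, hy⟩ := hb.2 ⟨x, hx⟩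
  have hy' : Algebra.TensorProduct.map (AlgHom.id E E) (integralClosure A AL).val y = x := congrArg Subtype.val hy
  rw [← hy']
  clear hy hy'
  induction y using TensorProduct.induction_on with
  | zero => exact ⟨0, by rw [map_zero, zero_tmul, sub_zero]; exact IsNilpotent.zero⟩
  | tmul e z =>
    obtain ⟨a, n, hn⟩ := hclosed z.1 z.2
    refine ⟨a • e, n, ?_⟩
    have h1 : (a • e) ⊗ₜ[A] (1 : AL) = e ⊗ₜ (algebraMap A AL a) := by
      rw [TensorProduct.smul_tmul, Algebra.algebraMap_eq_smul_one]
    rw [h1, Algebra.TensorProduct.map_tmul, AlgHom.id_apply, ← tmul_sub, Algebra.TensorProduct.tmul_pow]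
    show (e ^ n) ⊗ₜ ((z.1 - algebraMap A AL a) ^ n) = 0
    rw [hn, tmul_zero]
  | add y z hy hz =>
    obtain ⟨t, ht⟩ := hy
    obtain ⟨t', ht'⟩ := hz
    refine ⟨t + t', ?_⟩
    rw [map_add, add_tmul, add_sub_add_comm]
    exact (Commute.all _ _).isNilpotent_add ht ht'

/-- An idempotent congruent to a section of a local ring modulo nilpotents is trivial. -/
theorem idempotent_eq_zero_or_one {T C : Type u} [CommRing T] [IsLocalRing T] [CommRing C] (φ : T →+* C) {e : C}
    (he : IsIdempotentElem e) {t : T} (h : IsNilpotent (e - φ t)) : e = 0 ∨ e = 1 := by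
  rcases IsLocalRing.isUnit_or_isUnit_one_sub_self t with ht | ht
  · right
    have hu : IsUnit e := by
      have := h.isUnit_add_left_of_commute (ht.map φ) (Commute.all _ _)
      rwa [add_sub_cancel] at this
    exact (IsIdempotentElem.iff_eq_one_of_isUnit hu).1 he
  · left
    have hu : IsUnit (1 - e) := by
      have := (h.neg).isUnit_add_left_of_commute (ht.map φ) (Commute.all _ _)
      rwa [map_sub, map_one, show 1 - φ t + -(e - φ t) = 1 - e by ring] at this
    have := (IsIdempotentElem.iff_eq_one_of_isUnit hu).1 he.one_sub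
    exact sub_eq_self.1 this

variable {A AL B : Type u} [CommRing A] [CommRing AL] [CommRing B] [Algebra A AL] [IsLocalRing B] [Algebra A B]
  [Algebra.WeaklyEtale A B]

/-- Generic idempotents of a local weakly étale algebra are trivial. -/
theorem fraction_idempotent_trivial
    (hclosed : ∀ x : AL, IsIntegral A x → ∃ a, IsNilpotent (x - algebraMap A AL a))
    {b : B} {s : A} (hs : IsUnit (algebraMap A AL s)) (hb : b * b = algebraMap A B s * b) :
    b ⊗ₜ[A] (1 : AL) = 0 ∨ b ⊗ₜ[A] (1 : AL) = 1 ⊗ₜ[A] algebraMap A AL s := by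
  let q := (maximalIdeal B).comap (algebraMap A B)
  let Aq := Localization.AtPrime q
  have hu : ∀ y : q.primeCompl, IsUnit (algebraMap A B y) := fun y => by
    by_contra h
    exact y.2 ((mem_maximalIdeal _).2 h)
  let l : Aq →+* B := IsLocalization.lift hu
  letI : Algebra Aq B := l.toAlgebra
  haveI : IsScalarTower A Aq B := IsScalarTower.of_algebraMap_eq fun x => (IsLocalization.lift_eq hu x).symm
  haveI : IsLocalHom (algebraMap Aq B) := ⟨fun a ha => by
    obtain ⟨x, t, rfl⟩ := IsLocalization.exists_mk'_eq q.primeCompl a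
    rw [IsLocalization.AtPrime.isUnit_mk'_iff Aq q x t]
    intro hx
    refine (mem_maximalIdeal _).1 hx ?_
    have e : algebraMap A B x = algebraMap Aq B (IsLocalization.mk' Aq x t) * algebraMap A B t := by
      rw [IsScalarTower.algebraMap_apply A Aq B, IsScalarTower.algebraMap_apply A Aq B (t : A), ← map_mul,
        IsLocalization.mk'_spec]
    rw [e]
    exact ha.mul (hu t)⟩
  haveI : Algebra.WeaklyEtale Aq B := WLocalLib.weaklyEtale_of_isLocalization_base q.primeCompl
  let T := Henselization.StrictHenselizationRing B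
  haveI hT : Hensel.IsStrictHenselization B T := inferInstance
  letI : Algebra Aq T := ((algebraMap B T).comp (algebraMap Aq B)).toAlgebra
  haveI : IsScalarTower Aq B T := IsScalarTower.of_algebraMap_eq fun _ => rfl
  obtain ⟨hloc, hsh⟩ := S1467.sh_of_weaklyEtale Aq B T
  haveI := hloc
  haveI := hsh
  have hind := S12237.result Aq T
  haveI := S1467.weaklyEtale_sh B T
  haveI : Module.FaithfullyFlat B T := Module.FaithfullyFlat.of_flat_of_isLocalHom
  letI : Algebra A T := ((algebraMap B T).comp (algebraMap A B)).toAlgebra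
  haveI : IsScalarTower A B T := IsScalarTower.of_algebraMap_eq fun _ => rfl
  haveI : IsScalarTower A Aq T := IsScalarTower.of_algebraMap_eq fun x => by
    show algebraMap B T (algebraMap A B x) = algebraMap B T (algebraMap Aq B (algebraMap A Aq x))
    rw [← IsScalarTower.algebraMap_apply A Aq B]
  -- factor the equation through an étale algebra
  let f : Aq[X] := X ^ 2 - C (algebraMap A Aq s) * X
  let tb := algebraMap B T b
  have hf : f.eval₂ (algebraMap Aq T) tb = 0 := by
    simp only [f, eval₂_sub, eval₂_pow, eval₂_X, eval₂_mul, eval₂_C]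
    rw [← IsScalarTower.algebraMap_apply A Aq T, IsScalarTower.algebraMap_apply A B T, pow_two, ← map_mul,
      ← map_mul, hb, sub_self]
  haveI : Algebra.FinitePresentation Aq (AdjoinRoot f) := AdjoinRoot.finitePresentation f
  obtain ⟨E, _, _, _, u, v, huv⟩ := ProEtLib2.exists_factor hind (AdjoinRoot f)
    (AdjoinRoot.liftAlgHom f (Algebra.ofId Aq T) tb hf)
  let bE := u (AdjoinRoot.root f)
  have hvb : v bE = tb := (AlgHom.congr_fun huv _).trans (AdjoinRoot.liftAlgHom_root f (Algebra.ofId Aq T) tb hf)
  have hbE : bE * bE = algebraMap Aq E (algebraMap A Aq s) * bE := by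
    have h0 : AdjoinRoot.root f * AdjoinRoot.root f -
        algebraMap Aq (AdjoinRoot f) (algebraMap A Aq s) * AdjoinRoot.root f = 0 := by
      rw [← pow_two, ← AdjoinRoot.eval₂_root f]
      simp only [f, eval₂_sub, eval₂_pow, eval₂_X, eval₂_mul, eval₂_C]
      rfl
    have := congrArg u h0
    rw [map_sub, map_mul, map_mul, map_zero, AlgHom.commutes, sub_eq_zero] at this
    exact this
  letI : Algebra A E := ((algebraMap Aq E).comp (algebraMap A Aq)).toAlgebra
  haveI : IsScalarTower A Aq E := IsScalarTower.of_algebraMap_eq fun _ => rfl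
  obtain ⟨si, hsi⟩ := hs.exists_right_inv
  let x : E ⊗[A] AL := bE ⊗ₜ si
  have hbs : (bE * bE) ⊗ₜ[A] si = bE ⊗ₜ[A] (1 : AL) := by
    rw [hbE, ← IsScalarTower.algebraMap_apply A Aq E, ← Algebra.smul_def, TensorProduct.smul_tmul, Algebra.smul_def, hsi]
  have hx : x * x = x := by
    rw [show x * x = (bE * bE) ⊗ₜ[A] (si * si) from Algebra.TensorProduct.tmul_mul_tmul _ _ _ _]
    calc (bE * bE) ⊗ₜ[A] (si * si) = ((bE * bE) ⊗ₜ[A] si) * ((1 : E) ⊗ₜ si) := by
          rw [Algebra.TensorProduct.tmul_mul_tmul, mul_one]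
      _ = x := by rw [hbs, Algebra.TensorProduct.tmul_mul_tmul, mul_one, one_mul]
  haveI : Nontrivial E := RingHom.domain_nontrivial v.toRingHom
  have hxi : IsIntegral E x := by
    refine ⟨X ^ 2 - X, monic_X_pow_sub (by rw [degree_X]; norm_num), ?_⟩
    rw [eval₂_sub, eval₂_pow, eval₂_X, pow_two, hx, sub_self]
  haveI : Algebra.Smooth Aq E := inferInstance
  obtain ⟨tE, htE⟩ := exists_lift_of_bijective
    (TensorProduct.toIntegralClosure_bijective_of_tower (S := Aq)
      (TensorProduct.toIntegralClosure_bijective_of_isLocalization q.primeCompl)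
      TensorProduct.toIntegralClosure_bijective_of_smooth) hclosed x hxi
  let vA : E →ₐ[A] T := v.restrictScalars A
  let Φ : E ⊗[A] AL →ₐ[A] T ⊗[A] AL := Algebra.TensorProduct.map vA (AlgHom.id A AL)
  have hΦ : IsNilpotent (Φ x - Algebra.TensorProduct.includeLeftRingHom (v tE)) := by
    have := htE.map Φ
    rwa [map_sub] at this
  have hxT : IsIdempotentElem (Φ x) := by
    show Φ x * Φ x = Φ x
    rw [← map_mul, hx]
  have hxb : Φ x = algebraMap B T b ⊗ₜ si := congrArg (· ⊗ₜ[A] si) hvb
  let incl : B ⊗[A] AL →ₐ[A] T ⊗[A] AL :=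
    Algebra.TensorProduct.map (IsScalarTower.toAlgHom A B T) (AlgHom.id A AL)
  have hincl : Function.Injective incl := by
    have h := Module.FaithfullyFlat.tensorProduct_mk_injective (A := B) (B := T) (B ⊗[A] AL)
    let e := Algebra.TensorProduct.cancelBaseChange A B T T AL
    have : ∀ y, incl y = e ((1 : T) ⊗ₜ[B] y) := by
      intro y
      induction y using TensorProduct.induction_on with
      | zero => rw [map_zero, tmul_zero, map_zero]
      | tmul β z =>
        show algebraMap B T β ⊗ₜ z = (β • (1 : T)) ⊗ₜ z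
        rw [Algebra.algebraMap_eq_smul_one]
      | add y z hy hz => rw [map_add, tmul_add, map_add, hy, hz]
    exact fun y z hyz => h (e.injective ((this y).symm.trans (hyz.trans (this z))))
  have key : b ⊗ₜ[A] si = (0 : B ⊗[A] AL) ∨ b ⊗ₜ[A] si = (1 : B ⊗[A] AL) := by
    rcases idempotent_eq_zero_or_one Algebra.TensorProduct.includeLeftRingHom hxT hΦ with h | h
    · exact Or.inl (hincl ((hxb.symm.trans h).trans (map_zero incl).symm))
    · exact Or.inr (hincl ((hxb.symm.trans h).trans (map_one incl).symm))
  have hbe : b ⊗ₜ[A] (1 : AL) = (b ⊗ₜ[A] si) * ((1 : B) ⊗ₜ[A] algebraMap A AL s) := by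
    rw [Algebra.TensorProduct.tmul_mul_tmul, mul_one, mul_comm si, hsi]
  rcases key with h | h
  · left; rw [hbe, h, zero_mul]
  · right; rw [hbe, h, one_mul]

end Groth.Agent.ZeroAcycLib
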